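import Cfsg.Agent.Lib.MultD.EightTables

/-!
Isometries of the lattice of type `E₈` which are trivial modulo two are scalars.
-/

set_option autoImplicit false

namespace Cfsg.Agent.MultD.EightCover

open Cfsg.Agent.CurtisTits DType
open Matrix

/-- The isometries of the lattice. -/
def O : Subgroup (GL (SIdx 4) ℤ) where
  carrier := {g | (g : Matrix (SIdx 4) (SIdx 4) ℤ)ᵀ * C * (g : Matrix (SIdx 4) (SIdx 4) ℤ) = C}
  one_mem' := by simp
  mul_mem' := by
    intro g h hg hh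
    simp only [Set.mem_setOf_eq] at hg hh ⊢
    rw [Units.val_mul, transpose_mul,
      show (h : Matrix (SIdx 4) (SIdx 4) ℤ)ᵀ * (g : Matrix (SIdx 4) (SIdx 4) ℤ)ᵀ * C *
          ((g : Matrix (SIdx 4) (SIdx 4) ℤ) * (h : Matrix (SIdx 4) (SIdx 4) ℤ)) =
        (h : Matrix (SIdx 4) (SIdx 4) ℤ)ᵀ * ((g : Matrix (SIdx 4) (SIdx 4) ℤ)ᵀ * C *
          (g : Matrix (SIdx 4) (SIdx 4) ℤ)) * (h : Matrix (SIdx 4) (SIdx 4) ℤ) by simp only [Matrix.mul_assoc],
      hg, hh]
  inv_mem' := by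
    intro g hg
    simp only [Set.mem_setOf_eq] at hg ⊢
    conv_lhs => rw [← hg]
    simp only [Matrix.mul_assoc]
    rw [Units.mul_inv, Matrix.mul_one, ← Matrix.mul_assoc, ← transpose_mul, Units.mul_inv, transpose_one,
      Matrix.one_mul]

/-- Half the squared length. -/
def h (x : SIdx 4 → ℤ) : ℤ :=
  x (.inl 0) ^ 2 + x (.inl 1) ^ 2 + x (.inl 2) ^ 2 + x (.inl 3) ^ 2 + x (.inr 0) ^ 2 + x (.inr 1) ^ 2 +
    x (.inr 2) ^ 2 + x (.inr 3) ^ 2 - x (.inl 0) * x (.inl 1) - x (.inl 1) * x (.inl 2) - x (.inl 2) * x (.inl 3) -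
    x (.inl 3) * x (.inr 0) - x (.inr 0) * x (.inr 1) - x (.inr 1) * x (.inr 2) - x (.inr 0) * x (.inr 3)

theorem form_eq (x : SIdx 4 → ℤ) : x ⬝ᵥ C *ᵥ x = 2 * h x := by
  simp [h, dotProduct, mulVec, Fintype.sum_sum_type, Fin.sum_univ_four, C, mk, idx]
  ring

theorem h_mulVec {g : GL (SIdx 4) ℤ} (hg : g ∈ O) (x : SIdx 4 → ℤ) :
    h ((g : Matrix (SIdx 4) (SIdx 4) ℤ) *ᵥ x) = h x := by
  set M := (g : Matrix (SIdx 4) (SIdx 4) ℤ)
  have hg' : Mᵀ * C * M = C := hg
  have e : (M *ᵥ x) ⬝ᵥ C *ᵥ (M *ᵥ x) = x ⬝ᵥ C *ᵥ x := by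
    conv_rhs => rw [← hg', Matrix.mul_assoc, ← mulVec_mulVec, dotProduct_mulVec, vecMul_transpose,
      ← mulVec_mulVec]
  rw [form_eq, form_eq] at e
  linarith

theorem h_squares (x : SIdx 4 → ℤ) : 1680 * h x =
    420 * (2 * x (.inl 0) - x (.inl 1)) ^ 2 + 140 * (3 * x (.inl 1) - 2 * x (.inl 2)) ^ 2 +
    70 * (4 * x (.inl 2) - 3 * x (.inl 3)) ^ 2 + 42 * (5 * x (.inl 3) - 4 * x (.inr 0)) ^ 2 +
    28 * (6 * x (.inr 0) - 5 * x (.inr 1) - 5 * x (.inr 3)) ^ 2 +
    20 * (7 * x (.inr 1) - 6 * x (.inr 2) - 5 * x (.inr 3)) ^ 2 +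
    15 * (8 * x (.inr 2) - 5 * x (.inr 3)) ^ 2 + 105 * x (.inr 3) ^ 2 := by
  simp only [h]
  ring

theorem h_nonneg (x : SIdx 4 → ℤ) : 0 ≤ h x := by
  have := h_squares x
  nlinarith [sq_nonneg (2 * x (.inl 0) - x (.inl 1)), sq_nonneg (3 * x (.inl 1) - 2 * x (.inl 2)),
    sq_nonneg (4 * x (.inl 2) - 3 * x (.inl 3)), sq_nonneg (5 * x (.inl 3) - 4 * x (.inr 0)),
    sq_nonneg (6 * x (.inr 0) - 5 * x (.inr 1) - 5 * x (.inr 3)),
    sq_nonneg (7 * x (.inr 1) - 6 * x (.inr 2) - 5 * x (.inr 3)),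
    sq_nonneg (8 * x (.inr 2) - 5 * x (.inr 3)), sq_nonneg (x (.inr 3))]

theorem eq_zero_of_h (x : SIdx 4 → ℤ) (hx : h x = 0) : x = 0 := by
  have e := h_squares x
  rw [hx, mul_zero] at e
  have n1 := sq_nonneg (2 * x (.inl 0) - x (.inl 1))
  have n2 := sq_nonneg (3 * x (.inl 1) - 2 * x (.inl 2))
  have n3 := sq_nonneg (4 * x (.inl 2) - 3 * x (.inl 3))
  have n4 := sq_nonneg (5 * x (.inl 3) - 4 * x (.inr 0))
  have n5 := sq_nonneg (6 * x (.inr 0) - 5 * x (.inr 1) - 5 * x (.inr 3))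
  have n6 := sq_nonneg (7 * x (.inr 1) - 6 * x (.inr 2) - 5 * x (.inr 3))
  have n7 := sq_nonneg (8 * x (.inr 2) - 5 * x (.inr 3))
  have n8 := sq_nonneg (x (.inr 3))
  have z : ∀ {a : ℤ}, a ^ 2 ≤ 0 → a = 0 := fun {a} ha => by nlinarith [sq_nonneg a]
  have h8 := z (a := x (.inr 3)) (by linarith)
  have h7 := z (a := 8 * x (.inr 2) - 5 * x (.inr 3)) (by linarith)
  have h6 := z (a := 7 * x (.inr 1) - 6 * x (.inr 2) - 5 * x (.inr 3)) (by linarith)
  have h5 := z (a := 6 * x (.inr 0) - 5 * x (.inr 1) - 5 * x (.inr 3)) (by linarith)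
  have h4 := z (a := 5 * x (.inl 3) - 4 * x (.inr 0)) (by linarith)
  have h3 := z (a := 4 * x (.inl 2) - 3 * x (.inl 3)) (by linarith)
  have h2 := z (a := 3 * x (.inl 1) - 2 * x (.inl 2)) (by linarith)
  have h1 := z (a := 2 * x (.inl 0) - x (.inl 1)) (by linarith)
  funext i
  rcases i with i | i <;> fin_cases i <;> simp only [Pi.zero_apply] <;> dsimp <;> omega

/-- An isometry trivial modulo two fixes each basis vector up to sign. -/
theorem col_sign {g : GL (SIdx 4) ℤ} (hg : g ∈ O)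
    (h2 : ∀ i j, (2 : ℤ) ∣ (g : Matrix (SIdx 4) (SIdx 4) ℤ) i j - (1 : Matrix (SIdx 4) (SIdx 4) ℤ) i j)
    (j : SIdx 4) : (g : Matrix (SIdx 4) (SIdx 4) ℤ) *ᵥ Pi.single j 1 = Pi.single j 1 ∨
      (g : Matrix (SIdx 4) (SIdx 4) ℤ) *ᵥ Pi.single j 1 = -Pi.single j 1 := by
  set M := (g : Matrix (SIdx 4) (SIdx 4) ℤ)
  set e : SIdx 4 → ℤ := Pi.single j 1
  set u : SIdx 4 → ℤ := fun i => (M i j - (1 : Matrix (SIdx 4) (SIdx 4) ℤ) i j) / 2
  have hv : M *ᵥ e = e + (u + u) := by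
    funext i
    have := Int.two_mul_ediv_two_of_even (even_iff_two_dvd.2 (h2 i j))
    simp only [e, mulVec_single_one, col_apply, Pi.add_apply, u, Pi.single_apply, Matrix.one_apply] at this ⊢
    omega
  have he : h e = 1 := by
    rcases j with k | k <;> fin_cases k <;> simp [h, e]
  have hh : h (e + (u + u)) + h e = 2 * h (e + u) + 2 * h u := by
    simp only [h, Pi.add_apply]
    ring
  rw [← hv, h_mulVec hg, he] at hh
  have n1 := h_nonneg (e + u)
  have n2 := h_nonneg u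
  rcases (by omega : h u = 0 ∨ h (e + u) = 0) with h0 | h0
  · left
    rw [hv, eq_zero_of_h _ h0, add_zero, add_zero]
  · right
    have := eq_zero_of_h _ h0
    rw [hv, ← add_assoc, this, zero_add]
    exact eq_neg_of_add_eq_zero_right this

/-- **Isometries trivial modulo two are scalars.** -/
theorem eq_one_or_neg {g : GL (SIdx 4) ℤ} (hg : g ∈ O)
    (h2 : ∀ i j, (2 : ℤ) ∣ (g : Matrix (SIdx 4) (SIdx 4) ℤ) i j - (1 : Matrix (SIdx 4) (SIdx 4) ℤ) i j) :
    g = 1 ∨ g = -1 := by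
  set M := (g : Matrix (SIdx 4) (SIdx 4) ℤ) with hM
  have hcol : ∀ i j, M i j = if i = j then M j j else 0 := by
    intro i j
    rcases col_sign hg h2 j with e | e <;> (have := congrFun e i) <;>
      simp only [mulVec_single_one, col_apply, Pi.neg_apply, Pi.single_apply] at this <;>
      split_ifs with hij <;> simp_all
  have hs : ∀ j, M j j = 1 ∨ M j j = -1 := by
    intro j
    rcases col_sign hg h2 j with e | e <;> (have := congrFun e j) <;>
      simp [mulVec_single_one, col_apply] at this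
    · exact Or.inl this
    · exact Or.inr this
  have hd : M = diagonal fun j => M j j := by
    ext i j
    rw [hcol i j, diagonal_apply]
    split_ifs with hij
    · rw [hij]
    · rfl
  have hg' : Mᵀ * C * M = C := hg
  rw [hd, diagonal_transpose] at hg'
  have hedge : ∀ i j, C i j = -1 → M j j = M i i := by
    intro i j hC
    have := congrFun (congrFun hg' i) j
    rw [mul_diagonal, diagonal_mul, hC] at this
    rcases hs i with a | a <;> rcases hs j with b | b <;> rw [a, b] at this ⊢ <;> simp at this ⊢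
  have e1 := hedge (.inl 0) (.inl 1) rfl
  have e2 := hedge (.inl 1) (.inl 2) rfl
  have e3 := hedge (.inl 2) (.inl 3) rfl
  have e4 := hedge (.inl 3) (.inr 0) rfl
  have e5 := hedge (.inr 0) (.inr 1) rfl
  have e6 := hedge (.inr 1) (.inr 2) rfl
  have e7 := hedge (.inr 0) (.inr 3) rfl
  have hall : ∀ j, M j j = M (.inl 0) (.inl 0) := by
    intro j
    rcases j with k | k <;> fin_cases k
    · rfl
    · exact e1
    · exact e2.trans e1
    · exact e3.trans (e2.trans e1)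
    · exact e4.trans (e3.trans (e2.trans e1))
    · exact e5.trans (e4.trans (e3.trans (e2.trans e1)))
    · exact e6.trans (e5.trans (e4.trans (e3.trans (e2.trans e1))))
    · exact e7.trans (e4.trans (e3.trans (e2.trans e1)))
  rcases hs (.inl 0) with a | a
  · left
    refine Units.ext ?_
    rw [← hM, hd, Units.val_one, ← diagonal_one]
    exact congrArg diagonal (funext fun j => (hall j).trans a)
  · right
    refine Units.ext ?_
    rw [← hM, hd, Units.val_neg, Units.val_one, ← diagonal_one, diagonal_neg]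
    exact congrArg diagonal (funext fun j => (hall j).trans a)

end Cfsg.Agent.MultD.EightCover
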