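import Cfsg.Agent.Lib.MultD.EightTwo
import Cfsg.Agent.Lib.MultD.EightLattice

/-!
The two double covers of the group of plus type in dimension eight over two elements, and their fibre product.
-/

set_option autoImplicit false

namespace Cfsg.Agent.MultD.EightCover

open Cfsg.Agent.CurtisTits DType
open Cfsg.Agent.MaxCl Cfsg.Agent.MaxCl.Orth
open Matrix
open scoped commutatorElement

universe u

/-! ### Checks of the tables -/

/-- The root involution as an integral matrix. -/
def Eint (a b : SIdx 4) : Matrix (SIdx 4) (SIdx 4) ℤ := 1 + single a b 1 - single (ng b) (ng a) 1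

set_option maxRecDepth 100000 in
set_option maxHeartbeats 1600000 in
theorem lmat_sq : ∀ a b, lv a ≠ lv b → lmat a b * lmat a b = 1 := by decide +kernel

set_option maxRecDepth 100000 in
set_option maxHeartbeats 1600000 in
theorem lmat_iso : ∀ a b, lv a ≠ lv b → (lmat a b)ᵀ * C * lmat a b = C := by decide +kernel

set_option maxRecDepth 100000 in
set_option maxHeartbeats 1600000 in
theorem lmat_red : ∀ a b, lv a ≠ lv b → ∀ i j, (lmat a b * P - P * Eint a b) i j % 2 = 0 := by decide +kernel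

set_option maxRecDepth 100000 in
theorem P'_P : ∀ i j, (P' * P - 1) i j % 2 = 0 := by decide +kernel

set_option maxRecDepth 100000 in
theorem P_P' : ∀ i j, (P * P' - 1) i j % 2 = 0 := by decide +kernel

/-- Symmetric names of a root. -/
def reps (r : SIdx 4 × SIdx 4) : List (SIdx 4 × SIdx 4) := [r, (ng r.2, ng r.1)]

/-- One of the two names of a root. -/
def IsRep (r' r : SIdx 4 × SIdx 4) : Prop := r' = r ∨ r' = (ng r.2, ng r.1)

instance (r' r : SIdx 4 × SIdx 4) : Decidable (IsRep r' r) := inferInstanceAs (Decidable (_ ∨ _))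

/-- Two roots with commuting root elements, by the relations. -/
def CommOK (r s : SIdx 4 × SIdx 4) : Prop :=
  (r.1 ≠ s.2 ∧ r.2 ≠ s.1 ∧ r.1 ≠ ng s.1 ∧ r.2 ≠ ng s.2) ∨
    (IsRep (r.1, ng r.2) s ∨ IsRep (ng r.1, r.2) s)

instance (r s : SIdx 4 × SIdx 4) : Decidable (CommOK r s) := inferInstanceAs (Decidable (_ ∨ _))

/-- A chain of roots, by the relations. -/
def ChainOK (r s o : SIdx 4 × SIdx 4) : Prop :=
  ∃ r' ∈ reps r, ∃ s' ∈ reps s, r'.2 = s'.1 ∧ lv r'.1 ≠ lv s'.2 ∧ lv s'.1 ≠ lv s'.2 ∧ IsRep (r'.1, s'.2) o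

instance (r s o : SIdx 4 × SIdx 4) : Decidable (ChainOK r s o) := by unfold ChainOK; infer_instance

set_option maxRecDepth 100000 in
theorem tri_valid : ∀ a b, lv a ≠ lv b → lv (tri a b).1 ≠ lv (tri a b).2 := by decide +kernel

set_option maxRecDepth 100000 in
theorem tri_symm : ∀ a b, lv a ≠ lv b → tri (ng b) (ng a) = tri a b := by decide +kernel

set_option maxRecDepth 100000 in
set_option synthInstance.maxSize 4096 in
theorem tri_comm : ∀ a b, lv a ≠ lv b → ∀ c d, lv c ≠ lv d → a ≠ d → b ≠ c → a ≠ ng c → b ≠ ng d →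
    CommOK (tri a b) (tri c d) := by decide +kernel

set_option maxRecDepth 100000 in
theorem tri_comm2 : ∀ a b, lv a ≠ lv b → CommOK (tri a b) (tri a (ng b)) := by decide +kernel

set_option maxRecDepth 100000 in
theorem tri_chain : ∀ a b, lv a ≠ lv b → ∀ c, lv b ≠ lv c → lv a ≠ lv c →
    ChainOK (tri a b) (tri b c) (tri a c) := by decide +kernel

set_option maxRecDepth 100000 in
theorem tri_onto : ∀ a b, lv a ≠ lv b → ∃ c d, lv c ≠ lv d ∧ IsRep (tri c d) (a, b) := by decide +kernel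

variable {F : Type u} [Field F] [Finite F] (hF : Nat.card F = 2)

/-! ### Characteristic two -/

section arith

include hF

omit [Finite F] in
theorem two_eq_zero : (2 : F) = 0 := by
  rcases eq_zero_or_one hF (2 : F) with h | h
  · exact h
  · exact absurd (show (1 : F) = 0 by linear_combination h) one_ne_zero

omit [Finite F] in
theorem neg_self (t : F) : -t = t := by linear_combination (-t) * two_eq_zero hF

omit [Finite F] in
theorem cast_of_dvd {m : ℤ} (h : m % 2 = 0) : (m : F) = 0 := by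
  obtain ⟨k, rfl⟩ : ∃ k, m = 2 * k := ⟨m / 2, by omega⟩
  rw [Int.cast_mul, Int.cast_ofNat, two_eq_zero hF, zero_mul]

omit [Finite F] in
theorem dvd_of_cast {m : ℤ} (h : (m : F) = 0) : (2 : ℤ) ∣ m := by
  rcases Int.even_or_odd m with he | ⟨k, rfl⟩
  · exact even_iff_two_dvd.1 he
  · rw [Int.cast_add, Int.cast_mul, Int.cast_ofNat, two_eq_zero hF, zero_mul, zero_add, Int.cast_one] at h
    exact absurd h one_ne_zero

theorem subsingleton_units : ∀ t : Fˣ, t = 1 := fun t => by
  rcases eq_zero_or_one hF (t : F) with h | h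
  · exact absurd h t.ne_zero
  · exact Units.ext h

theorem zhom_eq_one (p : par (F := F) (n := 4)) : zhom (F := F) (show 3 ≤ 4 by norm_num) p = 1 := by
  have : p = 1 := Subtype.ext (Prod.ext (subsingleton_units hF _) (subsingleton_units hF _))
  rw [this, map_one]

theorem theta_injective : Function.Injective (cover F 4).θ := by
  rw [← MonoidHom.ker_eq_bot_iff, Subgroup.eq_bot_iff_forall]
  intro u hu
  rw [MonoidHom.mem_ker] at hu
  obtain ⟨p, hp⟩ := exists_zhom (g := u) (ε := (1 : F)) (show 3 ≤ 4 by norm_num) (one_mul 1) fun x q => by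
    show act ((cover F 4).θ u) x q = 1 * x q
    rw [hu, act_apply, Units.val_one, Matrix.one_mulVec, one_mul]
  rw [← hp, zhom_eq_one hF]

/-! ### Reduction of the lattice -/

/-- Reduction modulo two. -/
def cast2 : Matrix (SIdx 4) (SIdx 4) ℤ →+* Matrix (SIdx 4) (SIdx 4) F := (Int.castRingHom F).mapMatrix

theorem cast2_eq {M N : Matrix (SIdx 4) (SIdx 4) ℤ} (h : ∀ i j, (M - N) i j % 2 = 0) :
    (Int.castRingHom F).mapMatrix M = (Int.castRingHom F).mapMatrix N := by
  ext i j
  have := cast_of_dvd hF (h i j)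
  rw [Matrix.sub_apply, Int.cast_sub, sub_eq_zero] at this
  exact this

/-- The change to the hyperbolic basis. -/
def basis : GL (SIdx 4) F where
  val := (Int.castRingHom F).mapMatrix P
  inv := (Int.castRingHom F).mapMatrix P'
  val_inv := by rw [← map_mul, cast2_eq hF P_P', map_one]
  inv_val := by rw [← map_mul, cast2_eq hF P'_P, map_one]

/-- The reduction of a lattice automorphism in the hyperbolic basis. -/
def rho : GL (SIdx 4) ℤ →* GL (SIdx 4) F :=
  (MulAut.conj (basis hF)⁻¹).toMonoidHom.comp (Units.map (Int.castRingHom F).mapMatrix.toMonoidHom)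

end arith

/-- The lift of a root involution as a unit. -/
def lg (a b : SIdx 4) : GL (SIdx 4) ℤ :=
  if h : lv a ≠ lv b then ⟨lmat a b, lmat a b, lmat_sq a b h, lmat_sq a b h⟩ else 1

theorem coe_lg {a b : SIdx 4} (h : lv a ≠ lv b) : (lg a b : Matrix (SIdx 4) (SIdx 4) ℤ) = lmat a b := by
  rw [lg, dif_pos h]

/-- The group generated by the lifts. -/
def E₁ : Subgroup (GL (SIdx 4) ℤ) := Subgroup.closure {g | ∃ a b, lv a ≠ lv b ∧ g = lg a b}

theorem E₁_le : E₁ ≤ O := by
  rw [E₁, Subgroup.closure_le]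
  rintro _ ⟨a, b, h, rfl⟩
  show _ * C * _ = C
  rw [coe_lg h]
  exact lmat_iso a b h

omit [Finite F] in
theorem coe_E (hF : Nat.card F = 2) {a b : SIdx 4} (h : lv a ≠ lv b) :
    (DModel.E a b (1 : F) : Matrix (SIdx 4) (SIdx 4) F) = (Int.castRingHom F).mapMatrix (Eint a b) := by
  ext i j
  have e := DModel.act_E h (1 : F) (Pi.single j 1) i
  rw [act_apply, Matrix.mulVec_single_one] at e
  simp only [Matrix.col_apply] at e
  rw [e, RingHom.mapMatrix_apply, Matrix.map_apply, Eint, Matrix.sub_apply, Matrix.add_apply, Matrix.one_apply,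
    Matrix.single_apply, Matrix.single_apply]
  simp only [Pi.single_apply, one_mul, eq_intCast, Int.cast_sub, Int.cast_add, apply_ite (Int.cast : ℤ → F),
    Int.cast_one, Int.cast_zero, ← ite_and]
  congr 2 <;> simp only [eq_comm]

theorem rho_lg {a b : SIdx 4} (h : lv a ≠ lv b) : rho hF (lg a b) = DModel.E a b (1 : F) := by
  rw [rho, MonoidHom.comp_apply, MulEquiv.coe_toMonoidHom, MulAut.conj_apply, inv_inv, mul_assoc,
    inv_mul_eq_iff_eq_mul]
  refine Units.ext ?_
  rw [Units.val_mul, Units.val_mul, coe_E hF h]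
  show (Int.castRingHom F).mapMatrix (lg a b : Matrix (SIdx 4) (SIdx 4) ℤ) * (Int.castRingHom F).mapMatrix P =
    (Int.castRingHom F).mapMatrix P * _
  rw [coe_lg h, ← map_mul, ← map_mul]
  exact cast2_eq hF (lmat_red a b h)

theorem rho_mem_range (g : E₁) : rho hF g.1 ∈ (cover F 4).θ.range := by
  have : E₁.map (rho hF) ≤ (cover F 4).θ.range := by
    rw [E₁, MonoidHom.map_closure, Subgroup.closure_le]
    rintro _ ⟨_, ⟨a, b, h, rfl⟩, rfl⟩
    exact ⟨_, ((cover F 4).map_x a b h 1).trans (rho_lg hF h).symm⟩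
  exact this ⟨g.1, g.2, rfl⟩

/-- The first double cover. -/
noncomputable def σ₁ : E₁ →* U F 4 :=
  (MonoidHom.ofInjective (theta_injective hF)).symm.toMonoidHom.comp
    (((rho hF).comp E₁.subtype).codRestrict _ (rho_mem_range hF))

theorem theta_σ₁ (g : E₁) : (cover F 4).θ (σ₁ hF g) = rho hF g.1 := by
  have e : MonoidHom.ofInjective (theta_injective hF) (σ₁ hF g) =
      (((rho hF).comp E₁.subtype).codRestrict _ (rho_mem_range hF)) g := MulEquiv.apply_symm_apply _ _
  exact congrArg Subtype.val e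

/-- The lift inside the cover. -/
def le₁ {a b : SIdx 4} (h : lv a ≠ lv b) : E₁ := ⟨lg a b, Subgroup.subset_closure ⟨a, b, h, rfl⟩⟩

theorem σ₁_lg {a b : SIdx 4} (h : lv a ≠ lv b) : σ₁ hF (le₁ h) = (univ F 4).x a b 1 := by
  apply theta_injective hF
  rw [theta_σ₁]
  exact (rho_lg hF h).trans ((cover F 4).map_x a b h 1).symm

omit [Finite F] in
theorem U_le_of_gens (hF : Nat.card F = 2) (H : Subgroup (U F 4))
    (hH : ∀ a b, lv a ≠ lv b → (univ F 4).x a b 1 ∈ H) : H = ⊤ := by
  refine eq_top_iff.2 (closure_x.symm.le.trans ((Subgroup.closure_le _).2 ?_))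
  rintro _ ⟨a, b, h, t, rfl⟩
  rcases eq_zero_or_one hF t with rfl | rfl
  · rw [(univ F 4).x_zero h]; exact one_mem _
  · exact hH a b h

theorem σ₁_surjective : Function.Surjective (σ₁ hF) :=
  MonoidHom.range_eq_top.1 (U_le_of_gens hF _ fun _ _ h => ⟨_, σ₁_lg hF h⟩)

theorem ker_σ₁ {g : E₁} (hg : σ₁ hF g = 1) : (g : GL (SIdx 4) ℤ) = 1 ∨ (g : GL (SIdx 4) ℤ) = -1 := by
  refine eq_one_or_neg (E₁_le g.2) fun i j => dvd_of_cast hF ?_
  have e := theta_σ₁ hF g
  rw [hg, map_one, rho, MonoidHom.comp_apply, MulEquiv.coe_toMonoidHom, eq_comm, MulEquiv.map_eq_one_iff] at e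
  have e' := congrArg Units.val e
  change (Int.castRingHom F).mapMatrix (g.1 : Matrix (SIdx 4) (SIdx 4) ℤ) = 1 at e'
  have e'' := Matrix.ext_iff.2 e' i j
  rw [RingHom.mapMatrix_apply, Matrix.map_apply, eq_intCast] at e''
  rw [Int.cast_sub, e'', Matrix.one_apply, Matrix.one_apply, apply_ite (Int.cast : ℤ → F), Int.cast_one,
    Int.cast_zero, sub_self]

theorem ker_σ₁_central {g : E₁} (hg : σ₁ hF g = 1) : g ∈ Subgroup.center E₁ := by
  refine Subgroup.mem_center_iff.2 fun y => Subtype.ext ?_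
  rcases ker_σ₁ hF hg with e | e <;> simp [e]

/-! ### Triality on the universal group -/

omit [Finite F] in
theorem x_reps (hF : Nat.card F = 2) {r r' : SIdx 4 × SIdx 4} (h : lv r.1 ≠ lv r.2) (hr : IsRep r' r) (t : F) :
    (univ F 4).x r'.1 r'.2 t = (univ F 4).x r.1 r.2 t ∧ lv r'.1 ≠ lv r'.2 := by
  rcases hr with rfl | rfl
  · exact ⟨rfl, h⟩
  · refine ⟨?_, by rw [lv_ng, lv_ng]; exact h.symm⟩
    rw [(univ F 4).symm r.1 r.2 h, neg_self hF]

omit [Finite F] in
theorem commute_of_ok (hF : Nat.card F = 2) {r s : SIdx 4 × SIdx 4} (hr : lv r.1 ≠ lv r.2) (hs : lv s.1 ≠ lv s.2)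
    (h : CommOK r s) (t u : F) : Commute ((univ F 4).x r.1 r.2 t) ((univ F 4).x s.1 s.2 u) := by
  rcases h with ⟨h1, h2, h3, h4⟩ | h | h
  · exact (univ F 4).comm _ _ _ _ hr hs h1 h2 h3 h4 t u
  · rw [← (x_reps hF hs h u).1]
    exact (univ F 4).comm2 _ _ hr t u
  · rw [← (x_reps hF hs h u).1]
    have hr' : lv (ng r.2) ≠ lv (ng r.1) := by rw [lv_ng, lv_ng]; exact hr.symm
    have := (univ F 4).comm2 (ng r.2) (ng r.1) hr' t u
    have hq : lv (ng r.1) ≠ lv r.2 := by rwa [lv_ng]
    rw [(univ F 4).symm _ _ hr, ng_ng, neg_self hF] at this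
    rw [show (univ F 4).x (ng r.2) r.1 u = (univ F 4).x (ng r.1) r.2 u by
      conv_lhs => rw [← ng_ng r.1]
      rw [(univ F 4).symm _ _ hq, neg_self hF]] at this
    exact this

/-- The relations after triality. -/
noncomputable def triRels : RelsD F 4 (U F 4) where
  x a b t := (univ F 4).x (tri a b).1 (tri a b).2 t
  add a b h t u := (univ F 4).add _ _ (tri_valid a b h) t u
  symm a b h t := by rw [tri_symm a b h, neg_self hF]
  comm a b c d h1 h2 h3 h4 h5 h6 t u :=
    commute_of_ok hF (tri_valid a b h1) (tri_valid c d h2) (tri_comm a b h1 c d h2 h3 h4 h5 h6) t u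
  comm2 a b h t u := commute_of_ok hF (tri_valid a b h) (tri_valid a (ng b) (by rwa [lv_ng])) (tri_comm2 a b h) t u
  chain a b c h1 h2 h3 t u := by
    obtain ⟨r, hr, s, hs, hrs, hrs', hs', ho⟩ := tri_chain a b h1 c h2 h3
    simp only [reps, List.mem_cons, List.not_mem_nil, or_false] at hr hs
    rw [← (x_reps hF (tri_valid a b h1) hr t).1, ← (x_reps hF (tri_valid b c h2) hs u).1,
      ← (x_reps hF (tri_valid a c h3) ho (t * u)).1, ← hrs]
    exact (univ F 4).chain _ _ _ (x_reps hF (tri_valid a b h1) hr t).2 (by rw [hrs]; exact hs') hrs' t u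

/-- Triality. -/
noncomputable def τ : U F 4 →* U F 4 := lift (triRels hF)

theorem τ_surjective : Function.Surjective (τ hF) := by
  refine MonoidHom.range_eq_top.1 (U_le_of_gens hF _ fun a b h => ?_)
  obtain ⟨c, d, hcd, hm⟩ := tri_onto a b h
  refine ⟨(univ F 4).x c d 1, ?_⟩
  rw [τ, lift_x _ hcd, ← (x_reps hF (r := (a, b)) h hm 1).1]
  rfl

theorem τ_injective : Function.Injective (τ hF) := by
  haveI : Finite (U F 4) := Finite.of_injective _ (theta_injective hF)
  exact Finite.injective_iff_surjective.2 (τ_surjective hF)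

/-! ### The fibre product -/

/-- The fibre product of the two covers. -/
noncomputable def fib : Subgroup (E₁ × E₁) :=
  ((σ₁ hF).comp (MonoidHom.fst E₁ E₁)).eqLocus ((τ hF).comp ((σ₁ hF).comp (MonoidHom.snd E₁ E₁)))

/-- Its projection. -/
noncomputable def proj : fib hF →* U F 4 := ((σ₁ hF).comp (MonoidHom.fst E₁ E₁)).comp (fib hF).subtype

theorem proj_surjective : Function.Surjective (proj hF) := by
  intro u
  obtain ⟨g, hg⟩ := σ₁_surjective hF u
  obtain ⟨v, hv⟩ := τ_surjective hF u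
  obtain ⟨k, hk⟩ := σ₁_surjective hF v
  exact ⟨⟨(g, k), show σ₁ hF g = τ hF (σ₁ hF k) by rw [hg, hk, hv]⟩, hg⟩

theorem proj_ker {x : fib hF} (hx : proj hF x = 1) : σ₁ hF x.1.1 = 1 ∧ σ₁ hF x.1.2 = 1 := by
  have h1 : σ₁ hF x.1.1 = 1 := hx
  refine ⟨h1, τ_injective hF ?_⟩
  rw [map_one, ← h1]
  exact x.2.symm

theorem proj_ker_central : (proj hF).ker ≤ Subgroup.center (fib hF) := by
  intro x hx
  obtain ⟨h1, h2⟩ := proj_ker hF hx
  exact Subgroup.mem_center_iff.2 fun y => Subtype.ext (Prod.ext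
    (Subgroup.mem_center_iff.1 (ker_σ₁_central hF h1) _) (Subgroup.mem_center_iff.1 (ker_σ₁_central hF h2) _))

/-- The cover. -/
noncomputable abbrev Cov : Subgroup (fib hF) := _root_.commutator (fib hF)

/-- The covering map. -/
noncomputable def covMap : Cov hF →* U F 4 := (proj hF).comp (Cov hF).subtype

theorem covMap_surjective : Function.Surjective (covMap hF) := by
  intro u
  have : u ∈ (Cov hF).map (proj hF) := by
    rw [Cov, commutator_def, Subgroup.map_commutator, Subgroup.map_top_of_surjective _ (proj_surjective hF),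
      ← commutator_def, perfect (by norm_num)]
    exact Subgroup.mem_top u
  obtain ⟨x, hx, rfl⟩ := this
  exact ⟨⟨x, hx⟩, rfl⟩

theorem cov_perfect : _root_.commutator (Cov hF) = ⊤ := by
  refine eq_top_iff.2 fun x _ => ?_
  have hle : _root_.commutator (fib hF) ≤ (_root_.commutator (Cov hF)).map (Cov hF).subtype := by
    rw [commutator_def, Subgroup.commutator_le]
    rintro p - q -
    obtain ⟨p', hp⟩ := covMap_surjective hF (proj hF p)
    obtain ⟨q', hq⟩ := covMap_surjective hF (proj hF q)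
    refine ⟨⁅p', q'⁆, Subgroup.commutator_mem_commutator (Subgroup.mem_top _) (Subgroup.mem_top _), ?_⟩
    rw [map_commutatorElement]
    exact Schur.commutator_congr (proj_ker_central hF) hp hq
  obtain ⟨y, hy, he⟩ := hle x.2
  rwa [← Subtype.ext he]

theorem covMap_ker_central : (covMap hF).ker ≤ Subgroup.center (Cov hF) := fun x hx =>
  Subgroup.mem_center_iff.2 fun y => Subtype.ext (Subgroup.mem_center_iff.1 (proj_ker_central hF hx) y)

set_option maxRecDepth 100000 in
set_option maxHeartbeats 1600000 in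
theorem witness :
    lmat (.inl 2) (.inl 3) * lmat (.inl 0) (.inr 1) * lmat (.inl 2) (.inl 3) * lmat (.inl 0) (.inr 1) = -1 ∧
    lmat (.inl 0) (.inl 1) * lmat (.inl 0) (.inr 1) * lmat (.inl 0) (.inl 1) * lmat (.inl 0) (.inr 1) = 1 ∧
    lmat (.inl 2) (.inl 3) * lmat (.inl 2) (.inr 3) * lmat (.inl 2) (.inl 3) * lmat (.inl 2) (.inr 3) = 1 ∧
    lmat (.inl 0) (.inl 1) * lmat (.inl 2) (.inl 3) * lmat (.inl 0) (.inl 1) * lmat (.inl 2) (.inl 3) = -1 := by
  decide +kernel

theorem tri_witness : tri (.inl 0) (.inl 1) = (.inl 2, .inl 3) ∧ tri (.inl 0) (.inr 1) = (.inl 0, .inr 1) ∧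
    tri (.inl 2) (.inl 3) = (.inl 2, .inr 3) := by decide +kernel

theorem coe_comm {a b c d : SIdx 4} (h : lv a ≠ lv b) (h' : lv c ≠ lv d) :
    (((⁅le₁ h, le₁ h'⁆ : E₁) : GL (SIdx 4) ℤ) : Matrix (SIdx 4) (SIdx 4) ℤ) = lmat a b * lmat c d * lmat a b * lmat c d := by
  have i1 : ((lg a b)⁻¹ : GL (SIdx 4) ℤ) = lg a b :=
    inv_eq_of_mul_eq_one_right (Units.ext (by rw [Units.val_mul, coe_lg h, lmat_sq a b h]; rfl))
  have i2 : ((lg c d)⁻¹ : GL (SIdx 4) ℤ) = lg c d :=
    inv_eq_of_mul_eq_one_right (Units.ext (by rw [Units.val_mul, coe_lg h', lmat_sq c d h']; rfl))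
  show ((lg a b * lg c d * (lg a b)⁻¹ * (lg c d)⁻¹ : GL (SIdx 4) ℤ) : Matrix (SIdx 4) (SIdx 4) ℤ) = _
  rw [i1, i2, Units.val_mul, Units.val_mul, Units.val_mul, coe_lg h, coe_lg h']

/-- A root element of the fibre product. -/
noncomputable def fibEl {a b : SIdx 4} (h : lv a ≠ lv b) : fib hF :=
  ⟨(le₁ (a := (tri a b).1) (b := (tri a b).2) (tri_valid a b h), le₁ h), by
    show σ₁ hF (le₁ (tri_valid a b h)) = τ hF (σ₁ hF (le₁ h))
    rw [σ₁_lg, σ₁_lg, τ, lift_x _ h]
    rfl⟩

/-- The first component. -/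
noncomputable def pr₁ : fib hF →* GL (SIdx 4) ℤ := E₁.subtype.comp ((MonoidHom.fst E₁ E₁).comp (fib hF).subtype)

/-- The second component. -/
noncomputable def pr₂ : fib hF →* GL (SIdx 4) ℤ := E₁.subtype.comp ((MonoidHom.snd E₁ E₁).comp (fib hF).subtype)

/-- The two signs of a kernel element. -/
noncomputable def signs : Cov hF →* GL (SIdx 4) ℤ × GL (SIdx 4) ℤ :=
  ((pr₁ hF).prod (pr₂ hF)).comp (Cov hF).subtype

theorem signs_apply (x : Cov hF) : signs hF x = (pr₁ hF x.1, pr₂ hF x.1) := rfl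

theorem signs_injective : Function.Injective (signs hF) := by
  intro x y h
  rw [signs_apply, signs_apply, Prod.mk.injEq] at h
  exact Subtype.ext (Subtype.ext (Prod.ext (Subtype.ext h.1) (Subtype.ext h.2)))

set_option maxHeartbeats 1600000 in
theorem exists_ker_signs : ∃ z w : (covMap hF).ker, signs hF z.1 = (-1, 1) ∧ signs hF w.1 = (1, -1) := by
  obtain ⟨w1, w2, w3, w4⟩ := witness
  obtain ⟨t1, t2, t3⟩ := tri_witness
  have key : ∀ {a b c d : SIdx 4} (h : lv a ≠ lv b) (h' : lv c ≠ lv d), CommOK (a, b) (c, d) →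
      ∃ z : (covMap hF).ker, signs hF z.1 =
        (((⁅le₁ (tri_valid a b h), le₁ (tri_valid c d h')⁆ : E₁) : GL (SIdx 4) ℤ),
          ((⁅le₁ h, le₁ h'⁆ : E₁) : GL (SIdx 4) ℤ)) := by
    intro a b c d h h' hc
    refine ⟨⟨⟨⁅fibEl hF h, fibEl hF h'⁆,
      Subgroup.commutator_mem_commutator (Subgroup.mem_top _) (Subgroup.mem_top _)⟩, ?_⟩, ?_⟩
    swap
    · rw [signs_apply]
      dsimp only
      rw [map_commutatorElement, map_commutatorElement]
      exact Prod.ext (map_commutatorElement E₁.subtype _ _).symm (map_commutatorElement E₁.subtype _ _).symm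
    rw [MonoidHom.mem_ker, covMap, MonoidHom.comp_apply, Subgroup.subtype_apply]
    dsimp only
    rw [map_commutatorElement, commutatorElement_eq_one_iff_commute]
    have hx := (commute_of_ok hF h h' hc 1 1).map (τ hF)
    rw [← σ₁_lg hF h, ← σ₁_lg hF h'] at hx
    rwa [show proj hF (fibEl hF h) = τ hF (σ₁ hF (le₁ h)) from (fibEl hF h).2,
      show proj hF (fibEl hF h') = τ hF (σ₁ hF (le₁ h')) from (fibEl hF h').2]
  obtain ⟨z, hz⟩ := key (a := .inl 0) (b := .inl 1) (c := .inl 0) (d := .inr 1) (by decide) (by decide) (by decide)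
  obtain ⟨w, hw⟩ := key (a := .inl 0) (b := .inl 1) (c := .inl 2) (d := .inl 3) (by decide) (by decide) (by decide)
  refine ⟨z, w, hz.trans (Prod.ext (Units.ext ?_) (Units.ext ?_)), hw.trans (Prod.ext (Units.ext ?_) (Units.ext ?_))⟩ <;>
    rw [coe_comm]
  · rw [t1, t2]; exact w1
  · exact w2
  · rw [t1, t3]; exact w3
  · exact w4

theorem signs_ker (x : (covMap hF).ker) :
    ((signs hF x.1).1 = 1 ∨ (signs hF x.1).1 = -1) ∧ ((signs hF x.1).2 = 1 ∨ (signs hF x.1).2 = -1) :=
  ⟨ker_σ₁ hF (proj_ker hF x.2).1, ker_σ₁ hF (proj_ker hF x.2).2⟩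

end Cfsg.Agent.MultD.EightCover
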