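import Cfsg.Agent.Lib.MultD.EightCover

/-!
The Schur multiplier of the simple group of plus type in dimension eight over two elements is a four-group.
-/

set_option autoImplicit false

namespace Cfsg.Agent.MultD.EightMultiplier

open Cfsg.Agent.CurtisTits DType
open scoped commutatorElement

universe u v

/-- The four-group. -/
abbrev V4 : Type := Multiplicative (ZMod 2 × ZMod 2)

theorem pow_val_add {M : Type*} [Monoid M] {z : M} (hz : z * z = 1) (i j : ZMod 2) :
    z ^ (i + j).val = z ^ i.val * z ^ j.val := by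
  rw [← pow_add, ZMod.val_add, ← pow_mod_orderOf z (i.val + j.val), ← pow_mod_orderOf z ((i.val + j.val) % 2)]
  rw [Nat.mod_mod_of_dvd _ (orderOf_dvd_of_pow_eq_one (by rw [pow_two, hz]))]

/-- The homomorphism from the four-group given by two commuting involutions. -/
def four {M : Type*} [Monoid M] {z w : M} (hz : z * z = 1) (hw : w * w = 1) (h : Commute z w) : V4 →* M where
  toFun a := z ^ (Multiplicative.toAdd a).1.val * w ^ (Multiplicative.toAdd a).2.val
  map_one' := by simp
  map_mul' a b := by
    rw [toAdd_mul, Prod.fst_add, Prod.snd_add, pow_val_add hz, pow_val_add hw]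
    simp only [mul_assoc]
    congr 1
    rw [← mul_assoc, (h.pow_pow _ _).eq, mul_assoc]

theorem four_left {M : Type*} [Monoid M] {z w : M} (hz : z * z = 1) (hw : w * w = 1) (h : Commute z w) :
    four hz hw h (Multiplicative.ofAdd (1, 0)) = z := by
  simp [four, ZMod.val_one]

theorem four_right {M : Type*} [Monoid M] {z w : M} (hz : z * z = 1) (hw : w * w = 1) (h : Commute z w) :
    four hz hw h (Multiplicative.ofAdd (0, 1)) = w := by
  simp [four, ZMod.val_one]

variable {F : Type u} [Field F] [Fintype F]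

/-- The projection from the universal group is an isomorphism. -/
theorem exists_iso (hF : Nat.card F = 2) :
    ∃ p : U F 4 →* Cfsg.POmega F (Cfsg.quadFormPlus 4 F), Function.Bijective p := by
  obtain ⟨p, hp, hker, -⟩ := exists_cover (F := F) (n := 4) (by norm_num)
  refine ⟨p, ?_, hp⟩
  rw [← MonoidHom.ker_eq_bot_iff, hker, Subgroup.eq_bot_iff_forall]
  rintro _ ⟨z, rfl⟩
  exact EightCover.zhom_eq_one hF z

/-- **The upper bound.** -/
theorem exists_surjection (hF : Nat.card F = 2) {G : Type u} [Group G] (p : U F 4 →* G) (hp : Function.Bijective p)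
    {Γ : Type u} [Group Γ] (σ : Γ →* G) (hσ : Function.Surjective σ) (hz : σ.ker ≤ Subgroup.center Γ)
    (hc : σ.ker ≤ _root_.commutator Γ) : ∃ π : V4 →* σ.ker, Function.Surjective π := by
  obtain ⟨z₀, z₁, h0, h1, q0, q1, hlift⟩ := exists_lift_eight_two hF σ hσ hz (pushD (univ F 4) p)
  set M : Subgroup Γ := Subgroup.closure {z₀, z₁} with hMdef
  have hMk : M ≤ σ.ker := (Subgroup.closure_le _).2 (Set.insert_subset h0 (Set.singleton_subset_iff.2 h1))
  have hMn : M.Normal := ⟨fun m hm g => by
    rw [Subgroup.mem_center_iff.1 (hz (hMk hm)) g, mul_inv_cancel_right]; exact hm⟩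
  let μ : Γ ⧸ M →* G := QuotientGroup.lift M σ hMk
  have hμk : μ.ker ≤ Subgroup.center (Γ ⧸ M) := by
    intro x hx
    obtain ⟨g, rfl⟩ := QuotientGroup.mk'_surjective M x
    refine Subgroup.mem_center_iff.2 fun y => ?_
    obtain ⟨y, rfl⟩ := QuotientGroup.mk'_surjective M y
    rw [← map_mul, ← map_mul, Subgroup.mem_center_iff.1 (hz (show g ∈ σ.ker from hx)) y]
  obtain ⟨S, hS⟩ := hlift (Γ ⧸ M) (QuotientGroup.mk' M) μ (QuotientGroup.mk'_surjective M) rfl hμk
    ((QuotientGroup.eq_one_iff _).2 (Subgroup.subset_closure (by simp)))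
    ((QuotientGroup.eq_one_iff _).2 (Subgroup.subset_closure (by simp)))
  let f : U F 4 →* Γ ⧸ M := lift S
  have hf : μ.comp f = p := hom_ext fun a b h t => by
    rw [MonoidHom.comp_apply, lift_x _ h, hS a b h t]
    rfl
  have hfμ : ∀ s, μ (f s) = p s := fun s => DFunLike.congr_fun hf s
  have hcomm : _root_.commutator (Γ ⧸ M) ≤ f.range := by
    rw [commutator_def, Subgroup.commutator_le]
    rintro a - b -
    obtain ⟨u, hu⟩ := hp.2 (μ a)
    obtain ⟨v, hv⟩ := hp.2 (μ b)
    exact ⟨⁅u, v⁆, (map_commutatorElement f u v).trans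
      (Schur.commutator_congr hμk ((hfμ u).trans hu) ((hfμ v).trans hv))⟩
  have hker : σ.ker ≤ M := by
    intro k hk
    have hk' : QuotientGroup.mk' M k ∈ f.range := hcomm (by
      have := Subgroup.mem_map_of_mem (QuotientGroup.mk' M) (hc hk)
      rw [commutator_def, Subgroup.map_commutator, Subgroup.map_top_of_surjective _
        (QuotientGroup.mk'_surjective M)] at this
      rwa [commutator_def])
    obtain ⟨s, hs⟩ := hk'
    have hs1 : s = 1 := hp.1 (by rw [map_one, ← hfμ s, hs]; exact hk)
    rw [hs1, map_one] at hs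
    exact (QuotientGroup.eq_one_iff _).1 hs.symm
  let a : σ.ker := ⟨z₀, h0⟩
  let b : σ.ker := ⟨z₁, h1⟩
  let π : V4 →* σ.ker := four (z := a) (w := b) (Subtype.ext q0) (Subtype.ext q1)
    (Subtype.ext (Subgroup.mem_center_iff.1 (hz h0) z₁).symm)
  refine ⟨π, fun x => ?_⟩
  have hM : M ≤ π.range.map σ.ker.subtype := (Subgroup.closure_le _).2 (by
    rintro _ (rfl | rfl)
    · exact ⟨a, ⟨_, four_left _ _ _⟩, rfl⟩
    · exact ⟨b, ⟨_, four_right _ _ _⟩, rfl⟩)
  obtain ⟨y, ⟨v, hv⟩, hy⟩ := hM (hker x.2)
  exact ⟨v, hv.trans (Subtype.ext hy)⟩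

/-- A kernel with two independent signs is a four-group. -/
theorem nonempty_ker_equiv {K G : Type*} [Group K] [Group G] (κ : K →* G) (hcz : κ.ker ≤ Subgroup.center K)
    (signs : K →* GL (SIdx 4) ℤ × GL (SIdx 4) ℤ) (hsi : Function.Injective signs)
    (hsk : ∀ x : κ.ker, ((signs x.1).1 = 1 ∨ (signs x.1).1 = -1) ∧ ((signs x.1).2 = 1 ∨ (signs x.1).2 = -1))
    (z w : κ.ker) (hzs : signs z.1 = (-1, 1)) (hws : signs w.1 = (1, -1)) : Nonempty (κ.ker ≃* V4) := by
  let ι : κ.ker →* GL (SIdx 4) ℤ × GL (SIdx 4) ℤ := signs.comp κ.ker.subtype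
  have hι : Function.Injective ι := hsi.comp Subtype.val_injective
  have hsq : ∀ x : κ.ker, x * x = 1 := fun x => hι (by
    rw [map_mul, map_one]
    obtain ⟨h1, h2⟩ := hsk x
    refine Prod.ext ?_ ?_
    · rcases h1 with h | h <;> simp [ι, h]
    · rcases h2 with h | h <;> simp [ι, h])
  have hcm : Commute z w := Subtype.ext
    (Subgroup.mem_center_iff.1 (hcz z.2) w.1).symm
  let e₀ : V4 →* κ.ker := four (hsq z) (hsq w) hcm
  have hz' : ι z = (-1, 1) := hzs
  have hw' : ι w = (1, -1) := hws
  have hne : (-1 : GL (SIdx 4) ℤ) ≠ 1 := by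
    intro h
    have := congrArg (fun g : GL (SIdx 4) ℤ => (g : Matrix (SIdx 4) (SIdx 4) ℤ) (.inl 0) (.inl 0)) h
    simp at this
  have hval : ∀ i j : ZMod 2, ι (e₀ (Multiplicative.ofAdd (i, j))) = ((-1) ^ i.val, (-1) ^ j.val) := by
    intro i j
    show ι (z ^ i.val * w ^ j.val) = _
    rw [map_mul, map_pow, map_pow, hz', hw']
    simp
  have h01 : ∀ i : ZMod 2, i = 0 ∨ i = 1 := by decide
  have hbij : Function.Bijective e₀ := by
    constructor
    · intro x y hxy
      have h := congrArg ι hxy
      rw [show x = Multiplicative.ofAdd ((Multiplicative.toAdd x).1, (Multiplicative.toAdd x).2) from rfl,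
        show y = Multiplicative.ofAdd ((Multiplicative.toAdd y).1, (Multiplicative.toAdd y).2) from rfl, hval,
        hval, Prod.mk.injEq] at h
      refine Multiplicative.toAdd.injective (Prod.ext ?_ ?_)
      · rcases h01 (Multiplicative.toAdd x).1 with a | a <;> rcases h01 (Multiplicative.toAdd y).1 with b | b <;>
          rw [a, b] at h ⊢ <;> first
            | rfl
            | exact absurd (by simpa [ZMod.val_one] using h.1) hne
            | exact absurd (by simpa [ZMod.val_one, eq_comm] using h.1) hne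
      · rcases h01 (Multiplicative.toAdd x).2 with a | a <;> rcases h01 (Multiplicative.toAdd y).2 with b | b <;>
          rw [a, b] at h ⊢ <;> first
            | rfl
            | exact absurd (by simpa [ZMod.val_one] using h.2) hne
            | exact absurd (by simpa [ZMod.val_one, eq_comm] using h.2) hne
    · intro x
      have hv := hsk x
      have key : ∀ i j : ZMod 2, ι x = ((-1) ^ i.val, (-1) ^ j.val) → ∃ v, e₀ v = x := fun i j h =>
        ⟨_, hι ((hval i j).trans h.symm)⟩
      rcases hv.1 with a | a <;> rcases hv.2 with b | b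
      · exact key 0 0 (Prod.ext (by simpa [ι] using a) (by simpa [ι] using b))
      · exact key 0 1 (Prod.ext (by simpa [ι] using a) (by simpa [ι, ZMod.val_one] using b))
      · exact key 1 0 (Prod.ext (by simpa [ι, ZMod.val_one] using a) (by simpa [ι] using b))
      · exact key 1 1 (Prod.ext (by simpa [ι, ZMod.val_one] using a) (by simpa [ι, ZMod.val_one] using b))
  exact ⟨(MulEquiv.ofBijective e₀ hbij).symm⟩

/-- A perfect central cover gives a stem extension in any universe. -/
theorem exists_stem_of {K : Type} [Group K] [Finite K] {H G : Type u} [Group H] [Group G] (κ : K →* H)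
    (hκ : Function.Surjective κ) (hcz : κ.ker ≤ Subgroup.center K) (hperf : _root_.commutator K = ⊤)
    (p : H →* G) (hp : Function.Bijective p) (e : κ.ker ≃* V4) :
    ∃ (Γ : Type u) (_ : Group Γ) (_ : Finite Γ) (σ : Γ →* G),
      Cfsg.IsStemExtension σ ∧ Nonempty (σ.ker ≃* V4) := by
  let σ : ULift.{u} K →* G := (p.comp κ).comp MulEquiv.ulift.toMonoidHom
  have hσk : ∀ x : ULift.{u} K, x ∈ σ.ker ↔ x.down ∈ κ.ker := fun x => by
    rw [MonoidHom.mem_ker, MonoidHom.mem_ker]
    exact map_eq_one_iff p hp.1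
  refine ⟨ULift.{u} K, inferInstance, inferInstance, σ, ⟨?_, ?_, ?_⟩, ⟨?_⟩⟩
  · exact (hp.2.comp (hκ)).comp MulEquiv.ulift.surjective
  · intro x hx
    exact Subgroup.mem_center_iff.2 fun y => MulEquiv.ulift.injective
      (Subgroup.mem_center_iff.1 (hcz ((hσk x).1 hx)) y.down)
  · intro x _
    obtain ⟨y, hy, hxy⟩ : x ∈ (_root_.commutator K).map
        MulEquiv.ulift.symm.toMonoidHom := by
      rw [hperf]
      exact ⟨x.down, Subgroup.mem_top _, rfl⟩
    rw [← hxy]
    have := Subgroup.mem_map_of_mem MulEquiv.ulift.symm.toMonoidHom hy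
    rw [commutator_def, Subgroup.map_commutator, Subgroup.map_top_of_surjective _
      MulEquiv.ulift.symm.surjective] at this
    rwa [commutator_def]
  · exact ({ toFun := fun x => ⟨x.1.down, (hσk x.1).1 x.2⟩
             invFun := fun x => ⟨ULift.up x.1, (hσk ⟨x.1⟩).2 x.2⟩
             left_inv := fun _ => rfl
             right_inv := fun _ => rfl
             map_mul' := fun _ _ => rfl } : σ.ker ≃* κ.ker).trans e

/-- **The cover.** -/
theorem exists_stem (hF : Nat.card F = 2) {G : Type u} [Group G] (p : U F 4 →* G) (hp : Function.Bijective p) :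
    ∃ (Γ : Type u) (_ : Group Γ) (_ : Finite Γ) (σ : Γ →* G),
      Cfsg.IsStemExtension σ ∧ Nonempty (σ.ker ≃* V4) := by
  have hUfin : Finite (U F 4) := Finite.of_injective _ (EightCover.theta_injective hF)
  obtain ⟨z, w, hzs, hws⟩ := EightCover.exists_ker_signs hF
  obtain ⟨e⟩ := nonempty_ker_equiv (EightCover.covMap hF) (EightCover.covMap_ker_central hF) (EightCover.signs hF)
    (EightCover.signs_injective hF) (fun x => EightCover.signs_ker hF x) z w hzs hws
  have h1 : Finite (EightCover.covMap hF).ker := Finite.of_equiv _ e.symm.toEquiv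
  have h2 : Finite (EightCover.Cov hF ⧸ (EightCover.covMap hF).ker) := Finite.of_equiv _
    (QuotientGroup.quotientKerEquivOfSurjective _ (EightCover.covMap_surjective hF)).toEquiv.symm
  have h3 : Finite (EightCover.Cov hF) :=
    Finite.of_equiv _ (Subgroup.groupEquivQuotientProdSubgroup (s := (EightCover.covMap hF).ker)).symm
  exact exists_stem_of (EightCover.covMap hF) (EightCover.covMap_surjective hF) (EightCover.covMap_ker_central hF)
    (EightCover.cov_perfect hF) p hp e

/-- **The multiplier.** -/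
theorem hasSchurMultiplier (hF : Nat.card F = 2) :
    Cfsg.HasSchurMultiplier (Cfsg.POmega F (Cfsg.quadFormPlus 4 F)) V4 := by
  obtain ⟨p, hp⟩ := exists_iso (F := F) hF
  exact ⟨exists_stem hF p hp, fun Γ _ _ σ hσ => exists_surjection hF p hp σ hσ.1 hσ.2.1 hσ.2.2⟩

end Cfsg.Agent.MultD.EightMultiplier
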