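import Cfsg.Agent.Lib.CurtisTits.Signed

/-!
Tables for the double covers of the group of plus type in dimension eight over two elements: the root lattice of
type `E₈`, lifts of the root involutions to its isometries, and the triality permutation of the roots of type `D₄`.
-/

set_option autoImplicit false

namespace Cfsg.Agent.MultD.EightCover

open Cfsg.Agent.CurtisTits DType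

/-- Numbering of the signed indices. -/
def idx : SIdx 4 → ℕ := Sum.elim (fun i => i.1) (fun i => 4 + i.1)

/-- A matrix from its rows. -/
def mk (l : List (List ℤ)) : Matrix (SIdx 4) (SIdx 4) ℤ := Matrix.of fun a b => (l.getD (idx a) []).getD (idx b) 0

/-- The Cartan matrix of type `E₈`. -/
def C : Matrix (SIdx 4) (SIdx 4) ℤ := mk [[2, -1, 0, 0, 0, 0, 0, 0], [-1, 2, -1, 0, 0, 0, 0, 0], [0, -1, 2, -1, 0, 0, 0, 0], [0, 0, -1, 2, -1, 0, 0, 0], [0, 0, 0, -1, 2, -1, 0, -1], [0, 0, 0, 0, -1, 2, -1, 0], [0, 0, 0, 0, 0, -1, 2, 0], [0, 0, 0, 0, -1, 0, 0, 2]]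

/-- A hyperbolic basis modulo two. -/
def P : Matrix (SIdx 4) (SIdx 4) ℤ := mk [[0, 0, 0, 1, 0, 0, 0, 1], [0, 0, 1, 0, 0, 0, 1, 1], [0, 0, 0, 0, 0, 1, 0, 0], [0, 1, 1, 0, 0, 1, 1, 1], [0, 0, 0, 1, 0, 0, 1, 1], [0, 0, 0, 1, 1, 0, 1, 1], [1, 0, 0, 1, 1, 0, 1, 1], [1, 1, 0, 0, 1, 1, 0, 1]]

/-- Its inverse modulo two. -/
def P' : Matrix (SIdx 4) (SIdx 4) ℤ := mk [[0, 0, 0, 0, 0, 1, 1, 0], [0, 1, 1, 1, 0, 0, 0, 0], [1, 0, 0, 1, 0, 0, 1, 1], [1, 1, 0, 1, 1, 0, 1, 1], [0, 0, 0, 0, 1, 1, 0, 0], [0, 0, 1, 0, 0, 0, 0, 0], [1, 0, 0, 0, 1, 0, 0, 0], [0, 1, 0, 1, 1, 0, 1, 1]]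

/-- The lifts of the root involutions. -/
def liftRows : List (List (List ℤ)) := [
  [[1, 0, 0, 0, 0, 0, 0, 0], [0, 1, 0, 0, 0, 0, 0, 0], [0, 2, -1, 0, 1, -1, 0, 0], [0, 2, -2, 1, 1, -1, 0, 0], [0, 2, -2, 2, 1, -2, 0, 0], [0, 2, -2, 2, 0, -1, 0, 0], [0, 1, -1, 1, 0, 0, -1, 0], [0, 1, -1, 1, 1, -1, 0, -1]],
  [[-1, 0, 0, 0, 0, 0, 0, 0], [-2, 1, 0, 0, -1, 1, 0, 0], [-2, 0, 1, 0, -2, 2, 0, 0], [-2, 0, 0, 1, -3, 3, 0, 0], [-2, 0, 0, 2, -4, 3, 0, 0], [-2, 0, 0, 2, -3, 2, 0, 0], [-1, 0, 0, 1, -1, 1, 0, -1], [-1, 0, 0, 1, -2, 2, -1, 0]],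
  [[1, 0, 0, 0, -1, 1, 0, 0], [2, -1, 0, 0, -1, 1, 0, 0], [2, -2, 1, 0, -2, 2, 0, 0], [2, -2, 0, 1, -3, 3, 0, 0], [2, -2, 0, 2, -4, 3, 0, 0], [2, -2, 0, 2, -3, 2, 0, 0], [1, -1, 0, 1, -2, 1, 0, 1], [1, -1, 0, 1, -2, 1, 1, 0]],
  [[1, 0, 0, 0, 0, 0, 0, 0], [0, 1, 0, 0, 0, 0, 0, 0], [0, 0, 1, 0, 0, 0, 0, 0], [0, 0, 2, -1, 1, -1, 0, 0], [0, 0, 2, 0, 1, -2, 0, 0], [0, 0, 2, 0, 0, -1, 0, 0], [0, 0, 1, 0, 0, 0, -1, 0], [0, 0, 1, 0, 1, -1, 0, -1]],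
  [[-1, 0, 0, 0, 0, 0, 0, 0], [-2, 1, 0, 0, -1, 1, 0, 0], [-2, 0, 1, 0, -2, 2, 0, 0], [-2, 0, 0, 1, -3, 3, 0, 0], [-2, 0, 0, 0, -3, 4, 0, 0], [-2, 0, 0, 0, -2, 3, 0, 0], [-1, 0, 0, 0, -1, 2, -1, 0], [-1, 0, 0, 0, -1, 2, 0, -1]],
  [[-1, 0, 0, 0, 1, -1, 0, 0], [0, -1, 0, 0, 2, -2, 0, 0], [0, -2, 1, 0, 2, -2, 0, 0], [0, -2, 0, 1, 2, -2, 0, 0], [0, -2, 0, 2, 2, -3, 0, 0], [0, -2, 0, 2, 1, -2, 0, 0], [0, -1, 0, 1, 0, -1, 0, 1], [0, -1, 0, 1, 1, -2, 1, 0]],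
  [[1, 0, 0, 0, 0, 0, 0, 0], [0, 1, 0, 0, 0, 0, 0, 0], [0, 0, 1, 0, 0, 0, 0, 0], [0, 0, 2, -1, 0, 1, -1, 0], [0, 0, 2, 0, -1, 2, -2, 0], [0, 0, 1, 0, 0, 1, -2, 0], [0, 0, 1, 0, 0, 0, -1, 0], [0, 0, 1, 0, 0, 1, -1, -1]],
  [[1, 0, 0, 0, 0, 0, 0, 0], [2, 1, -1, 0, 0, 0, 0, 0], [4, 0, -1, 0, 0, 0, 0, 0], [5, 0, -1, 0, 0, 0, 1, -1], [6, 0, -1, 0, -1, 0, 2, 0], [4, 0, -1, 0, 0, -1, 2, 0], [2, 0, -1, 0, 0, 0, 1, 0], [3, 0, 0, -1, 0, 0, 1, 0]],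
  [[-1, 2, -1, 0, 0, 0, 0, 0], [-2, 3, -1, 0, 0, 0, 0, 0], [-4, 4, -1, 0, 0, 0, 0, 0], [-5, 5, -1, 0, -1, 0, 1, 1], [-6, 6, -1, 0, -1, 0, 2, 0], [-4, 4, -1, 0, 0, -1, 2, 0], [-2, 2, -1, 0, 0, 0, 1, 0], [-3, 3, -1, 1, -1, 0, 1, 0]],
  [[-1, 0, 0, 0, 0, 0, 0, 0], [-2, -1, 1, 0, 0, 0, 0, 0], [-4, 0, 1, 0, 0, 0, 0, 0], [-5, 0, 1, -1, 1, 0, 0, 0], [-6, 0, 0, 0, 1, 0, 0, 0], [-4, 0, 0, 0, 0, 1, 0, 0], [-2, 0, 0, 0, 0, 0, 1, 0], [-3, 0, 0, 0, 1, 0, 0, -1]],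
  [[1, -2, 1, 0, 0, 0, 0, 0], [0, -3, 2, 0, 0, 0, 0, 0], [0, -4, 3, 0, 0, 0, 0, 0], [0, -5, 4, 0, -1, 0, 1, 1], [0, -6, 5, 0, -1, 0, 2, 0], [0, -4, 3, 0, 0, -1, 2, 0], [0, -2, 1, 0, 0, 0, 1, 0], [0, -3, 2, 1, -1, 0, 1, 0]],
  [[-1, 0, 0, 0, 0, 0, 0, 0], [-2, 1, 0, 0, 0, -1, 1, 0], [-2, 0, 1, 0, 0, -2, 2, 0], [-2, 0, 0, 1, 0, -3, 3, 0], [-2, 0, 0, 0, 1, -4, 4, 0], [-1, 0, 0, 0, 1, -3, 2, 0], [-1, 0, 0, 0, 1, -2, 1, 0], [-1, 0, 0, 0, 1, -2, 2, -1]],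
  [[-1, 0, 0, 0, 0, 0, 0, 0], [-2, 0, -1, 1, 0, 0, 0, 0], [-3, 0, -1, 0, 1, 0, 0, 0], [-5, 1, -1, 0, 1, 0, 0, 0], [-6, 0, 0, 0, 1, 0, 0, 0], [-4, 0, 0, 0, 0, 1, 0, 0], [-2, 0, 0, 0, 0, 0, 1, 0], [-3, 0, 0, 0, 1, 0, 0, -1]],
  [[0, 0, 0, 0, -1, 0, 0, 2], [0, 0, 0, 1, -2, 0, -1, 3], [0, 0, 1, 0, -2, 0, -2, 4], [0, 1, 0, 0, -2, 0, -3, 5], [1, 0, 0, 0, -2, 0, -4, 6], [1, 0, 0, 0, -1, -1, -2, 4], [1, 0, 0, 0, -1, 0, -1, 2], [1, 0, 0, 0, -1, 0, -2, 3]],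
  [[0, 0, 0, 0, 1, 0, 0, -2], [0, 0, 0, 1, 1, 0, -1, -3], [0, 0, 1, 0, 2, 0, -2, -4], [0, 1, 0, 0, 3, 0, -3, -5], [1, 0, 0, 0, 4, 0, -4, -6], [1, 0, 0, 0, 3, -1, -2, -4], [1, 0, 0, 0, 1, 0, -1, -2], [0, 0, 0, 0, 2, 0, -2, -3]],
  [[-1, 0, 0, 0, 0, 1, -1, 0], [0, -1, 0, 0, 0, 2, -2, 0], [0, -2, 1, 0, 0, 2, -2, 0], [0, -2, 0, 1, 0, 2, -2, 0], [0, -2, 0, 2, -1, 3, -3, 0], [0, -1, 0, 1, -1, 2, -2, 1], [0, -1, 0, 1, -1, 1, -1, 1], [0, -1, 0, 1, -1, 2, -1, 0]],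
  [[1, -1, -1, 1, 0, 0, 0, 0], [0, -1, -2, 2, 0, 0, 0, 0], [0, -1, -3, 3, -1, 0, 1, 1], [0, -1, -4, 4, -1, 0, 1, 1], [0, -1, -5, 5, -1, 0, 2, 0], [0, -1, -3, 3, 0, -1, 2, 0], [0, -1, -1, 1, 0, 0, 1, 0], [0, -1, -2, 3, -1, 0, 1, 0]],
  [[0, 0, 0, 1, 0, 0, -1, -1], [0, 0, 0, 1, 1, 0, -1, -3], [0, 0, 1, 0, 2, 0, -2, -4], [0, 1, 0, 0, 3, 0, -3, -5], [-1, 1, 0, 0, 4, 0, -4, -6], [-1, 1, 0, 0, 3, -1, -2, -4], [-1, 1, 0, 0, 1, 0, -1, -2], [0, 0, 0, 0, 2, 0, -2, -3]],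
  [[1, 0, 0, 0, 0, 0, 0, 0], [0, 1, 0, 0, 0, 0, 0, 0], [0, 2, -1, 0, 0, 1, -1, 0], [0, 2, -2, 1, 0, 1, -1, 0], [0, 2, -2, 2, -1, 2, -2, 0], [0, 1, -1, 1, 0, 1, -2, 0], [0, 1, -1, 1, 0, 0, -1, 0], [0, 1, -1, 1, 0, 1, -1, -1]],
  [[-1, 0, 0, 0, 0, 0, 0, 0], [-2, 1, 0, 0, 0, -1, 1, 0], [-2, 0, 1, 0, 0, -2, 2, 0], [-2, 0, 0, 1, 0, -3, 3, 0], [-2, 0, 0, 2, -1, -3, 3, 0], [-1, 0, 0, 1, 0, -2, 2, -1], [-1, 0, 0, 1, 0, -1, 1, -1], [-1, 0, 0, 1, 0, -2, 1, 0]],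
  [[1, 0, 0, 0, 0, -1, 1, 0], [2, -1, 0, 0, 0, -1, 1, 0], [2, -2, 1, 0, 0, -2, 2, 0], [2, -2, 0, 1, 0, -3, 3, 0], [2, -2, 0, 2, -1, -3, 3, 0], [1, -1, 0, 1, -1, -2, 2, 1], [1, -1, 0, 1, -1, -1, 1, 1], [1, -1, 0, 1, -1, -1, 2, 0]],
  [[1, 0, 0, 0, 0, 0, 0, 0], [2, 0, 1, -1, 0, 0, 0, 0], [3, 0, 1, -1, 0, 0, 1, -1], [5, -1, 1, -1, 0, 0, 1, -1], [6, -1, 1, -1, -1, 0, 2, 0], [4, -1, 1, -1, 0, -1, 2, 0], [2, -1, 1, -1, 0, 0, 1, 0], [3, 0, 0, -1, 0, 0, 1, 0]],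
  [[-1, 1, 1, -1, 0, 0, 0, 0], [-2, 2, 1, -1, 0, 0, 0, 0], [-3, 3, 1, -1, -1, 0, 1, 1], [-5, 4, 1, -1, -1, 0, 1, 1], [-6, 5, 1, -1, -1, 0, 2, 0], [-4, 3, 1, -1, 0, -1, 2, 0], [-2, 1, 1, -1, 0, 0, 1, 0], [-3, 2, 1, 0, -1, 0, 1, 0]],
  [[0, 0, 0, -1, 0, 0, 1, 1], [0, 0, 0, -2, 1, 0, 2, 0], [0, 0, 1, -4, 2, 0, 2, 0], [0, 1, 0, -5, 3, 0, 2, 0], [0, 1, 0, -6, 4, 0, 2, 0], [0, 1, 0, -4, 3, -1, 2, 0], [0, 1, 0, -2, 1, 0, 1, 0], [1, 0, 0, -3, 2, 0, 1, 0]]]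

/-- The row of a root in the table of lifts. -/
def rootNo : List ℕ := [0, 0, 1, 2, 0, 3, 4, 5, 6, 0, 7, 8, 3, 0, 9, 10, 11, 12, 0, 13, 4, 9, 0, 14, 15, 16, 17, 0, 5, 10, 14, 0, 0, 18, 19, 20, 0, 6, 11, 15, 18, 0, 21, 22, 0, 0, 12, 16, 19, 21, 0, 23, 1, 7, 0, 17, 20, 22, 23, 0, 2, 8, 13, 0]

/-- The lift of a root involution. -/
def lmat (a b : SIdx 4) : Matrix (SIdx 4) (SIdx 4) ℤ := mk (liftRows.getD (rootNo.getD (8 * idx a + idx b) 0) [])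

/-- The images of the roots under triality. -/
def triTable : List (SIdx 4 × SIdx 4) := [
  ((Sum.inl 0), (Sum.inl 0)), ((Sum.inl 2), (Sum.inl 3)), ((Sum.inl 1), (Sum.inl 3)), ((Sum.inl 1), (Sum.inr 2)), ((Sum.inl 0), (Sum.inr 0)), ((Sum.inl 0), (Sum.inr 1)), ((Sum.inl 0), (Sum.inr 2)), ((Sum.inl 0), (Sum.inl 3)),
  ((Sum.inl 3), (Sum.inl 2)), ((Sum.inl 1), (Sum.inl 1)), ((Sum.inl 1), (Sum.inl 2)), ((Sum.inl 1), (Sum.inr 3)), ((Sum.inl 0), (Sum.inr 1)), ((Sum.inl 1), (Sum.inr 1)), ((Sum.inl 0), (Sum.inr 3)), ((Sum.inl 0), (Sum.inl 2)),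
  ((Sum.inl 3), (Sum.inl 1)), ((Sum.inl 2), (Sum.inl 1)), ((Sum.inl 2), (Sum.inl 2)), ((Sum.inl 2), (Sum.inr 3)), ((Sum.inl 0), (Sum.inr 2)), ((Sum.inl 0), (Sum.inr 3)), ((Sum.inl 2), (Sum.inr 2)), ((Sum.inl 0), (Sum.inl 1)),
  ((Sum.inr 1), (Sum.inl 2)), ((Sum.inr 1), (Sum.inl 3)), ((Sum.inr 2), (Sum.inl 3)), ((Sum.inl 3), (Sum.inl 3)), ((Sum.inl 0), (Sum.inl 3)), ((Sum.inl 0), (Sum.inl 2)), ((Sum.inl 0), (Sum.inl 1)), ((Sum.inl 3), (Sum.inr 3)),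
  ((Sum.inr 0), (Sum.inl 0)), ((Sum.inr 0), (Sum.inl 1)), ((Sum.inr 0), (Sum.inl 2)), ((Sum.inl 3), (Sum.inl 0)), ((Sum.inr 0), (Sum.inr 0)), ((Sum.inl 3), (Sum.inl 2)), ((Sum.inl 3), (Sum.inl 1)), ((Sum.inr 1), (Sum.inl 2)),
  ((Sum.inr 0), (Sum.inl 1)), ((Sum.inr 1), (Sum.inl 1)), ((Sum.inr 0), (Sum.inl 3)), ((Sum.inl 2), (Sum.inl 0)), ((Sum.inl 2), (Sum.inl 3)), ((Sum.inr 1), (Sum.inr 1)), ((Sum.inl 2), (Sum.inl 1)), ((Sum.inr 1), (Sum.inl 3)),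
  ((Sum.inr 0), (Sum.inl 2)), ((Sum.inr 0), (Sum.inl 3)), ((Sum.inr 2), (Sum.inl 2)), ((Sum.inl 1), (Sum.inl 0)), ((Sum.inl 1), (Sum.inl 3)), ((Sum.inl 1), (Sum.inl 2)), ((Sum.inr 2), (Sum.inr 2)), ((Sum.inr 2), (Sum.inl 3)),
  ((Sum.inl 3), (Sum.inl 0)), ((Sum.inl 2), (Sum.inl 0)), ((Sum.inl 1), (Sum.inl 0)), ((Sum.inr 3), (Sum.inl 3)), ((Sum.inl 1), (Sum.inr 2)), ((Sum.inl 1), (Sum.inr 3)), ((Sum.inl 2), (Sum.inr 3)), ((Sum.inr 3), (Sum.inr 3))]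

/-- The triality permutation of the roots. -/
def tri (a b : SIdx 4) : SIdx 4 × SIdx 4 := triTable.getD (8 * idx a + idx b) (a, b)

end Cfsg.Agent.MultD.EightCover
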