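import Cfsg.Agent.Lib.MultD.FTwoLift

/-!
Central extensions of the group of plus type in dimension eight over two elements: after dividing out two
central involutions the Steinberg relations lift.
-/

set_option autoImplicit false

namespace Cfsg.Agent.MultD

open Cfsg.Agent.CurtisTits DType SL2Presentation
open scoped commutatorElement

universe u

section Tuples

/-- Four signed indices on four levels. -/
def Valid (T : Fin 4 → SIdx 4) : Prop := ∀ i j, i ≠ j → lv (T i) ≠ lv (T j)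

/-- Apply a signed swap if it is defined. -/
def mv (p q : SIdx 4) (T : Fin 4 → SIdx 4) : Fin 4 → SIdx 4 := if lv p ≠ lv q then fun i => sw p q (T i) else T

/-- Move one entry to its target. -/
def fixAt (k k' : Fin 4) (t : SIdx 4) (T : Fin 4 → SIdx 4) : Fin 4 → SIdx 4 :=
  let T1 := if lv (T k) = lv t ∧ T k ≠ t then mv (T k) (T k') T else T
  mv (T1 k) t T1

/-- Normal form of a tuple. -/
def red (T : Fin 4 → SIdx 4) : Fin 4 → SIdx 4 :=
  fixAt 2 3 (.inl 2) (fixAt 1 2 (.inl 1) (fixAt 0 1 (.inl 0) T))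

/-- The two base tuples. -/
def base (s : Bool) : Fin 4 → SIdx 4 := ![.inl 0, .inl 1, .inl 2, if s then .inr 3 else .inl 3]

set_option maxRecDepth 100000 in
theorem red_eq_base_aux : ∀ a b : SIdx 4, lv a ≠ lv b → ∀ c, lv a ≠ lv c → lv b ≠ lv c → ∀ d, lv a ≠ lv d → lv b ≠ lv d →
    lv c ≠ lv d → ∃ s, ∀ i, red ![a, b, c, d] i = base s i := by
  decide +kernel

theorem red_eq_base {T : Fin 4 → SIdx 4} (h : Valid T) : ∃ s, red T = base s := by
  obtain ⟨s, hs⟩ := red_eq_base_aux (T 0) (T 1) (h 0 1 (by decide)) (T 2) (h 0 2 (by decide)) (h 1 2 (by decide))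
    (T 3) (h 0 3 (by decide)) (h 1 3 (by decide)) (h 2 3 (by decide))
  refine ⟨s, funext fun i => ?_⟩
  rw [← hs i]
  congr
  funext j
  fin_cases j <;> rfl

theorem Valid.mv {T : Fin 4 → SIdx 4} (h : Valid T) (p q : SIdx 4) : Valid (MultD.mv p q T) := by
  unfold MultD.mv
  split_ifs with hpq
  · exact fun i j hij => lv_sw_ne hpq (h i j hij)
  · exact h

theorem Valid.fixAt {T : Fin 4 → SIdx 4} (h : Valid T) (k k' : Fin 4) (t : SIdx 4) : Valid (MultD.fixAt k k' t T) := by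
  unfold MultD.fixAt
  split_ifs
  · exact (h.mv _ _).mv _ _
  · exact h.mv _ _

theorem fixAt_invariant {X : Type*} (f : (Fin 4 → SIdx 4) → X)
    (hf : ∀ T p q, Valid T → lv p ≠ lv q → f (fun i => sw p q (T i)) = f T)
    {T : Fin 4 → SIdx 4} (h : Valid T) (k k' : Fin 4) (t : SIdx 4) : f (fixAt k k' t T) = f T := by
  have hmv : ∀ {T}, Valid T → ∀ p q, f (mv p q T) = f T := by
    intro T hT p q
    unfold mv
    split_ifs with hpq
    · exact hf T p q hT hpq
    · rfl
  unfold fixAt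
  split_ifs
  · exact (hmv (h.mv _ _) _ _).trans (hmv h _ _)
  · exact hmv h _ _

theorem eq_base_of_invariant {X : Type*} (f : (Fin 4 → SIdx 4) → X)
    (hf : ∀ T p q, Valid T → lv p ≠ lv q → f (fun i => sw p q (T i)) = f T)
    {T : Fin 4 → SIdx 4} (h : Valid T) : ∃ s, f T = f (base s) := by
  obtain ⟨s, hs⟩ := red_eq_base h
  refine ⟨s, ?_⟩
  rw [← hs, red, fixAt_invariant f hf ((h.fixAt _ _ _).fixAt _ _ _), fixAt_invariant f hf (h.fixAt _ _ _),
    fixAt_invariant f hf h]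

end Tuples

variable {F : Type u} [Field F] [Finite F]

/-- Over two elements the Weyl elements permute the root involutions. -/
theorem w_conj_one (hF : Nat.card F = 2) {n : ℕ} (hn : 3 ≤ n) {G : Type u} [Group G] (R : RelsD F n G)
    {p q c d : SIdx n} (hpq : lv p ≠ lv q) (hcd : lv c ≠ lv d) :
    R.w p q 1 * R.x c d 1 * (R.w p q 1)⁻¹ = R.x (sw p q c) (sw p q d) 1 := by
  set w := R.w p q 1
  obtain ⟨s, hs⟩ := R.w_conj hn hpq hcd one_ne_zero 1
  obtain ⟨s', hs'⟩ := R.w_conj hn hpq (lv_sw_ne hpq hcd) one_ne_zero 1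
  rw [sw_sw hpq, sw_sw hpq] at hs'
  rcases eq_zero_or_one hF s with rfl | rfl
  swap
  · exact hs
  rw [R.x_zero (lv_sw_ne hpq hcd)] at hs
  have h1 : R.x c d 1 = 1 := by
    have : w⁻¹ * (w * R.x c d 1 * w⁻¹) * w = w⁻¹ * 1 * w := by rw [hs]
    simpa [mul_assoc] using this
  rcases eq_zero_or_one hF s' with rfl | rfl
  · rw [R.x_zero hcd] at hs'
    have : w⁻¹ * (w * R.x (sw p q c) (sw p q d) 1 * w⁻¹) * w = w⁻¹ * 1 * w := by rw [hs']
    rw [show R.x (sw p q c) (sw p q d) 1 = 1 by simpa [mul_assoc] using this, h1]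
    group
  · rw [h1] at hs' ⊢
    have : w⁻¹ * (w * R.x (sw p q c) (sw p q d) 1 * w⁻¹) * w = w⁻¹ * 1 * w := by rw [hs']
    rw [show R.x (sw p q c) (sw p q d) 1 = 1 by simpa [mul_assoc] using this]
    group

/-- **After dividing out two central involutions the relations lift.** -/
theorem exists_lift_eight_two (hF : Nat.card F = 2) {Γ G : Type u} [Group Γ] [Group G] (π : Γ →* G)
    (hπ : Function.Surjective π) (hz : π.ker ≤ Subgroup.center Γ) (φ : RelsD F 4 G) :
    ∃ z₀ z₁ : Γ, z₀ ∈ π.ker ∧ z₁ ∈ π.ker ∧ z₀ * z₀ = 1 ∧ z₁ * z₁ = 1 ∧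
      ∀ (Δ : Type u) [Group Δ] (ν : Γ →* Δ) (μ : Δ →* G), Function.Surjective ν → μ.comp ν = π →
        μ.ker ≤ Subgroup.center Δ → ν z₀ = 1 → ν z₁ = 1 →
        ∃ S : RelsD F 4 Δ, ∀ a b, lv a ≠ lv b → ∀ t, μ (S.x a b t) = φ.x a b t := by
  classical
  haveI := Fintype.ofFinite F
  let L : SIdx 4 → SIdx 4 → F → Γ := fun a b t => Function.surjInv hπ (φ.x a b t)
  have hL : ∀ a b t, π (L a b t) = φ.x a b t := fun a b t => Function.surjInv_eq hπ _
  let Φ : (Fin 4 → SIdx 4) → Γ := fun T => ⁅L (T 0) (T 1) 1, L (T 2) (T 3) 1⁆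
  have hcom : ∀ T, Valid T → Commute (φ.x (T 0) (T 1) 1) (φ.x (T 2) (T 3) 1) := fun T h =>
    φ.comm _ _ _ _ (h 0 1 (by decide)) (h 2 3 (by decide)) (fun e => h 0 3 (by decide) (by rw [e]))
      (fun e => h 1 2 (by decide) (by rw [e])) (fun e => h 0 2 (by decide) (by rw [e, lv_ng]))
      (fun e => h 1 3 (by decide) (by rw [e, lv_ng])) 1 1
  have hker : ∀ T, Valid T → Φ T ∈ π.ker := fun T h => by
    rw [MonoidHom.mem_ker, map_commutatorElement, hL, hL, commutatorElement_eq_one_iff_commute]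
    exact hcom T h
  have hinv : ∀ T p q, Valid T → lv p ≠ lv q → Φ (fun i => sw p q (T i)) = Φ T := by
    intro T p q hT hpq
    obtain ⟨g, hg⟩ := hπ (φ.w p q 1)
    have hc : g * Φ T * g⁻¹ = Φ T := by
      rw [Subgroup.mem_center_iff.1 (hz (hker T hT)) g, mul_inv_cancel_right]
    refine Eq.trans ?_ hc
    rw [show g * Φ T * g⁻¹ = ⁅g * L (T 0) (T 1) 1 * g⁻¹, g * L (T 2) (T 3) 1 * g⁻¹⁆ by
      simp only [Φ, commutatorElement_def]; group]
    refine Schur.commutator_congr hz ?_ ?_ <;>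
      rw [map_mul, map_mul, map_inv, hg, hL, hL] <;> symm
    · exact w_conj_one hF (by norm_num) φ hpq (hT 0 1 (by decide))
    · exact w_conj_one hF (by norm_num) φ hpq (hT 2 3 (by decide))
  have hbase : ∀ s, Valid (base s) := by
    intro s
    unfold Valid
    cases s <;> decide
  have hsq : ∀ T, Valid T → Φ T * Φ T = 1 := by
    intro T hT
    have h2 : π (L (T 2) (T 3) 1 * L (T 2) (T 3) 1) = π 1 := by
      rw [map_mul, hL, map_one, ← φ.add _ _ (hT 2 3 (by decide))]
      rcases eq_zero_or_one hF (1 + 1 : F) with h | h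
      · rw [h, φ.x_zero (hT 2 3 (by decide))]
      · exact absurd (add_eq_left.1 h) one_ne_zero
    have hcz : Φ T ∈ Subgroup.center Γ := hz (hker T hT)
    rw [← Schur.SLn.comm_mul_of_central hcz, Schur.commutator_congr hz (rfl : π (L (T 0) (T 1) 1) = _) h2,
      commutatorElement_one_right]
  refine ⟨Φ (base false), Φ (base true), hker _ (hbase _), hker _ (hbase _), hsq _ (hbase _), hsq _ (hbase _),
    fun Δ _ ν μ hν hcomp hμ hν0 hν1 => ?_⟩
  have hμν : ∀ γ, μ (ν γ) = π γ := fun γ => DFunLike.congr_fun hcomp γ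
  refine exists_lift_of_frames le_rfl μ hμ φ fun ε => ?_
  let ψ : Rels F 4 G := φ.frame (fs ε) (fs_inj ε)
  refine exists_rels_of_disjoint hμ ψ (fun i j t => ν (L (fs ε i) (fs ε j) t))
    (fun i j _ t => by rw [hμν, hL]; rfl) hF le_rfl ?_
  intro i j k l hij hkl hil hjk hik hjl t u a b ha hb
  rw [← commutatorElement_eq_one_iff_commute]
  rcases eq_zero_or_one hF t with rfl | rfl
  · rw [Schur.commutator_congr hμ (a' := 1) (b' := b) (by rw [ha, ψ.x_zero hij, map_one]) rfl,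
      commutatorElement_one_left]
  rcases eq_zero_or_one hF u with rfl | rfl
  · rw [Schur.commutator_congr hμ (a' := a) (b' := 1) rfl (by rw [hb, ψ.x_zero hkl, map_one]),
      commutatorElement_one_right]
  let T : Fin 4 → SIdx 4 := ![fs ε i, fs ε j, fs ε k, fs ε l]
  have hT : Valid T := by
    intro p q hpq
    fin_cases p <;> fin_cases q <;>
      first
      | exact absurd rfl hpq
      | simp [T, lv_fs, hij, hij.symm, hik, hik.symm, hil, hil.symm, hjk, hjk.symm, hjl, hjl.symm, hkl, hkl.symm]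
  obtain ⟨s, hs⟩ := eq_base_of_invariant Φ hinv hT
  rw [Schur.commutator_congr hμ (a' := ν (L (T 0) (T 1) 1)) (b' := ν (L (T 2) (T 3) 1))
      (by rw [ha, hμν, hL]; rfl) (by rw [hb, hμν, hL]; rfl), ← map_commutatorElement,
    show ⁅L (T 0) (T 1) 1, L (T 2) (T 3) 1⁆ = Φ T from rfl, hs]
  cases s <;> assumption

end Cfsg.Agent.MultD
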