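import Cfsg.Agent.Lib.MultD.Multiplier

/-!
Over the field of two elements the relations of type `A` lift through a central extension as soon as
lifts of root elements on disjoint pairs of indices commute.
-/

set_option autoImplicit false

namespace Cfsg.Agent.MultD

open Cfsg.Agent.CurtisTits DType SL2Presentation
open scoped commutatorElement

universe u

variable {F : Type u} [Field F] {n : ℕ} {Γ G : Type u} [Group Γ] [Group G] {π : Γ →* G}

/-- Over two elements every scalar is `0` or `1`. -/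
theorem eq_zero_or_one (hF : Nat.card F = 2) (t : F) : t = 0 ∨ t = 1 := by
  classical
  haveI : Finite F := Nat.finite_of_card_ne_zero (by omega)
  haveI := Fintype.ofFinite F
  by_contra h
  push Not at h
  have := Finset.card_le_univ ({0, 1, t} : Finset F)
  rw [Finset.card_insert_of_notMem, Finset.card_pair h.2.symm, ← Nat.card_eq_fintype_card, hF] at this
  · omega
  · simp [h.1.symm]

/-- An element commuting modulo the kernel with `b` and `c` commutes with lifts of their commutator. -/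
theorem commute_of_commutator (hz : π.ker ≤ Subgroup.center Γ) {a b c p q : Γ}
    (hpq : π b = ⁅π p, π q⁆) (hb : Commute (π a) (π p)) (hc : Commute (π a) (π q)) (h : b = c) :
    Commute a c := by
  subst h
  have e : a * ⁅p, q⁆ * a⁻¹ = ⁅p, q⁆ := by
    have conj : a * ⁅p, q⁆ * a⁻¹ = ⁅a * p * a⁻¹, a * q * a⁻¹⁆ := by
      rw [commutatorElement_def, commutatorElement_def]; group
    rw [conj]
    refine Schur.commutator_congr hz ?_ ?_ <;> rw [map_mul, map_mul, map_inv]
    · rw [hb.eq, mul_inv_cancel_right]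
    · rw [hc.eq, mul_inv_cancel_right]
  have hz' : b * ⁅p, q⁆⁻¹ ∈ Subgroup.center Γ :=
    hz (by rw [MonoidHom.mem_ker, map_mul, map_inv, map_commutatorElement, hpq, mul_inv_cancel])
  have h1 : Commute a ⁅p, q⁆ := mul_inv_eq_iff_eq_mul.1 e
  have h2 : Commute a (b * ⁅p, q⁆⁻¹) := Subgroup.mem_center_iff.1 hz' a
  have := h2.mul_right h1
  rwa [inv_mul_cancel_right] at this

variable (hz : π.ker ≤ Subgroup.center Γ) (φ : Rels F n G) (L : Fin n → Fin n → F → Γ)
  (hL : ∀ i j, i ≠ j → ∀ t, π (L i j t) = φ.x i j t)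

include hL

theorem comm_image {i k j : Fin n} (hik : i ≠ k) (hkj : k ≠ j) (hij : i ≠ j) (t u : F) :
    π ⁅L i k t, L k j u⁆ = φ.x i j (t * u) := by
  rw [map_commutatorElement, hL i k hik, hL k j hkj, commutatorElement_def, φ.chain i k j hik hkj hij]
  group

include hz

/-- Lifts of commuting root elements commute. -/
theorem lifts_commute (hn : 4 ≤ n)
    (hd : ∀ i j k l : Fin n, i ≠ j → k ≠ l → i ≠ l → j ≠ k → i ≠ k → j ≠ l → ∀ t u, ∀ a b : Γ,
      π a = φ.x i j t → π b = φ.x k l u → Commute a b)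
    {i j k l : Fin n} (hij : i ≠ j) (hkl : k ≠ l) (hil : i ≠ l) (hjk : j ≠ k) {t u : F} {a b : Γ}
    (ha : π a = φ.x i j t) (hb : π b = φ.x k l u) : Commute a b := by
  by_cases hik : i = k ∨ j = l
  · obtain ⟨m, hm⟩ : ∃ m, m ≠ i ∧ m ≠ j ∧ m ≠ k ∧ m ≠ l := by
      rcases hik with rfl | rfl
      · obtain ⟨m, h1, h2, h3⟩ := exists_four hn i j l; exact ⟨m, h1, h2, h1, h3⟩
      · obtain ⟨m, h1, h2, h3⟩ := exists_four hn i j k; exact ⟨m, h1, h2, h3, h2⟩
    obtain ⟨h1, h2, h3, h4⟩ := hm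
    have e := comm_image φ L hL h3.symm h4 hkl u 1
    rw [mul_one] at e
    refine commute_of_commutator hz (p := L k m u) (q := L m l 1) ?_ ?_ ?_ rfl
    · rw [hb, ← map_commutatorElement, e]
    · rw [ha, hL k m h3.symm]; exact φ.comm i j k m hij h3.symm h1.symm hjk t u
    · rw [ha, hL m l h4]; exact φ.comm i j m l hij h4 hil h2.symm t 1
  · rw [not_or] at hik
    exact hd i j k l hij hkl hil hjk hik.1 hik.2 t u a b ha hb

/-- **Lifting of the relations.** -/
theorem exists_rels_of_disjoint (hF : Nat.card F = 2) (hn : 4 ≤ n)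
    (hd : ∀ i j k l : Fin n, i ≠ j → k ≠ l → i ≠ l → j ≠ k → i ≠ k → j ≠ l → ∀ t u, ∀ a b : Γ,
      π a = φ.x i j t → π b = φ.x k l u → Commute a b) :
    ∃ R : Rels F n Γ, ∀ i j, i ≠ j → ∀ t, π (R.x i j t) = φ.x i j t := by
  classical
  have hc : ∀ {i j k l : Fin n}, i ≠ j → k ≠ l → i ≠ l → j ≠ k → ∀ {t u : F} {a b : Γ},
      π a = φ.x i j t → π b = φ.x k l u → Commute a b :=
    fun h1 h2 h3 h4 => lifts_commute hz φ L hL hn hd h1 h2 h3 h4
  let B : Fin n → Fin n → Fin n → F → F → Γ := fun i k j t u => ⁅L i k t, L k j u⁆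
  have hB : ∀ {i k j : Fin n}, i ≠ k → k ≠ j → i ≠ j → ∀ t u, π (B i k j t u) = φ.x i j (t * u) :=
    fun h1 h2 h3 t u => comm_image φ L hL h1 h2 h3 t u
  -- vanishing arguments
  have h0l : ∀ {i k j : Fin n}, i ≠ k → ∀ u, B i k j 0 u = 1 := fun {i k j} h u => by
    rw [show B i k j 0 u = ⁅(1 : Γ), L k j u⁆ from Schur.commutator_congr hz
      (by rw [hL i k h, φ.x_zero h, map_one]) rfl, commutatorElement_one_left]
  have h0r : ∀ {i k j : Fin n}, k ≠ j → ∀ t, B i k j t 0 = 1 := fun {i k j} h t => by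
    rw [show B i k j t 0 = ⁅L i k t, (1 : Γ)⁆ from Schur.commutator_congr hz rfl
      (by rw [hL k j h, φ.x_zero h, map_one]), commutatorElement_one_right]
  -- additivity
  have hadd : ∀ {i k j : Fin n}, i ≠ k → k ≠ j → i ≠ j → ∀ t t' u,
      B i k j (t + t') u = B i k j t u * B i k j t' u := by
    intro i k j hik hkj hij t t' u
    rw [show B i k j (t + t') u = ⁅L i k t * L i k t', L k j u⁆ from Schur.commutator_congr hz
      (by rw [map_mul, hL i k hik, hL i k hik, hL i k hik, φ.add i k hik]) rfl]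
    have h1 : Commute (L i k t) (B i k j t' u) := hc hik hij hij hik.symm (hL i k hik t) (hB hik hkj hij t' u)
    have h2 : Commute (B i k j t' u) (B i k j t u) :=
      hc hij hij hij hij.symm (hB hik hkj hij t' u) (hB hik hkj hij t u)
    rw [← h2.eq]
    have h3 := h1.eq
    simp only [B, commutatorElement_def] at h3 ⊢
    calc L i k t * L i k t' * L k j u * (L i k t * L i k t')⁻¹ * (L k j u)⁻¹
        = L i k t * (L i k t' * L k j u * (L i k t')⁻¹ * (L k j u)⁻¹) *
          (L k j u * (L i k t)⁻¹ * (L k j u)⁻¹) := by group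
      _ = L i k t' * L k j u * (L i k t')⁻¹ * (L k j u)⁻¹ *
          (L i k t * L k j u * (L i k t)⁻¹ * (L k j u)⁻¹) := by rw [h3]; group
  -- moving the middle index
  have hassoc : ∀ {i k l j : Fin n}, i ≠ k → k ≠ l → l ≠ j → i ≠ l → k ≠ j → i ≠ j →
      B i l j 1 1 = B i k j 1 1 := by
    intro i k l j hik hkl hlj hil hkj hij
    set a := L i k 1
    set b := L k l 1
    set c := L l j 1
    have hA : π ⁅a, b⁆ = φ.x i l 1 := by rw [show ⁅a, b⁆ = B i k l 1 1 from rfl, hB hik hkl hil, one_mul]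
    have hC : π ⁅b, c⁆ = φ.x k j 1 := by rw [show ⁅b, c⁆ = B k l j 1 1 from rfl, hB hkl hlj hkj, one_mul]
    have hAc : π ⁅⁅a, b⁆, c⁆ = φ.x i j 1 := by
      rw [map_commutatorElement, hA, ← hL i l hil, ← map_commutatorElement, hB hil hlj hij, one_mul]
    have e1 : B i l j 1 1 = ⁅⁅a, b⁆, c⁆ := Schur.commutator_congr hz (by rw [hA, hL i l hil]) rfl
    have e2 : B i k j 1 1 = ⁅a, ⁅b, c⁆⁆ := Schur.commutator_congr hz rfl (by rw [hC, hL k j hkj])
    have h1 : Commute a c := hc hik hlj hij hkl (hL i k hik 1) (hL l j hlj 1)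
    have h2 : Commute ⁅a, b⁆ ⁅b, c⁆ := hc hil hkj hij hkl.symm hA hC
    have h3 : Commute ⁅⁅a, b⁆, c⁆ ⁅b, c⁆ := hc hij hkj hij hkj.symm hAc hC
    rw [e1, e2]
    have e : a * ⁅b, c⁆ * a⁻¹ = ⁅⁅a, b⁆, c⁆ * ⁅b, c⁆ := by
      rw [show a * ⁅b, c⁆ * a⁻¹ = ⁅a * b * a⁻¹, a * c * a⁻¹⁆ by
          rw [commutatorElement_def, commutatorElement_def]; group,
        show a * c * a⁻¹ = c by rw [h1.eq, mul_inv_cancel_right],
        show a * b * a⁻¹ = ⁅a, b⁆ * b by rw [commutatorElement_def]; group, h3.eq]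
      have h4 := h2.eq
      generalize ⁅a, b⁆ = A at h4 ⊢
      simp only [commutatorElement_def] at h4 ⊢
      calc A * b * c * (A * b)⁻¹ * c⁻¹ = A * (b * c * b⁻¹ * c⁻¹) * (c * A⁻¹ * c⁻¹) := by group
        _ = b * c * b⁻¹ * c⁻¹ * (A * c * A⁻¹ * c⁻¹) := by rw [h4]; group
    rw [commutatorElement_def a ⁅b, c⁆, e, mul_inv_cancel_right]
  have hmid : ∀ i j : Fin n, ∃ k, k ≠ i ∧ k ≠ j := fun i j =>
    (exists_four hn i j j).imp fun k hk => ⟨hk.1, hk.2.1⟩
  choose m hmi hmj using hmid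
  have hx : ∀ i j, i ≠ j → ∀ t, π (B i (m i j) j t 1) = φ.x i j t := fun i j h t => by
    rw [hB (hmi i j).symm (hmj i j) h, mul_one]
  refine ⟨⟨fun i j t => B i (m i j) j t 1, fun i j h t u => hadd (hmi i j).symm (hmj i j) h t u 1,
    fun i j k l h1 h2 h3 h4 t u => hc h1 h2 h3 h4 (hx i j h1 t) (hx k l h2 u),
    fun i j l h1 h2 h3 t u => ?_⟩, hx⟩
  have e : B i (m i l) l (t * u) 1 = B i j l t u := by
    rcases eq_zero_or_one hF t with rfl | rfl
    · rw [zero_mul, h0l (hmi i l).symm, h0l h1]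
    rcases eq_zero_or_one hF u with rfl | rfl
    · rw [mul_zero, h0l (hmi i l).symm, h0r h2]
    rw [one_mul]
    rcases eq_or_ne (m i l) j with hjm | hjm
    · rw [hjm]
    · exact hassoc h1 (Ne.symm hjm) (hmj i l) (hmi i l).symm h2 h3
  rw [e, show B i j l t u = ⁅B i (m i j) j t 1, B j (m j l) l u 1⁆ from Schur.commutator_congr hz
    (by rw [hL i j h1, hx i j h1]) (by rw [hL j l h2, hx j l h2]), commutatorElement_def]
  group

end Cfsg.Agent.MultD
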