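import Cfsg.Agent.Lib.MultD.Universal

/-!
The preimage in the universal group of the scalars of the orthogonal group of plus type.
-/

set_option autoImplicit false

namespace Cfsg.Agent.MultD

open Cfsg.Agent.CurtisTits DType
open Cfsg.Agent.MaxCl Cfsg.Agent.MaxCl.Orth
open scoped MatrixGroups

universe u

variable {F : Type u} [Field F] [Finite F] {n : ℕ} (hn : 3 ≤ n)

variable (F n) in
/-- The torus of the universal group. -/
def tsub : Subgroup (U F n) :=
  Subgroup.closure {g | ∃ a b, lv a ≠ lv b ∧ ∃ t : F, t ≠ 0 ∧ g = hh a b t}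

include hn in
theorem tsub_comm : IsMulCommutative (tsub F n) := by
  refine Subgroup.isMulCommutative_closure ?_
  rintro _ ⟨a, b, h, t, ht, rfl⟩ _ ⟨c, d, h', s, hs, rfl⟩
  exact ((isTor_hh hn h ht).commute hn h' hs).eq

/-- The torus as a commutative group. -/
@[implicit_reducible] def tsubGroup : CommGroup (tsub F n) :=
  { (inferInstance : Group (tsub F n)) with
    mul_comm := fun a b => (tsub_comm hn).is_comm.comm a b }

/-- The torus of a root. -/
def hhom {a b : SIdx n} (h : lv a ≠ lv b) : Fˣ →* tsub F n :=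
  MonoidHom.mk' (fun t => ⟨hh a b (t : F), Subgroup.subset_closure ⟨a, b, h, t, t.ne_zero, rfl⟩⟩)
    fun s t => Subtype.ext (by
      show hh a b ((s * t : Fˣ) : F) = hh a b (s : F) * hh a b (t : F)
      rw [Units.val_mul, hh_mul hn h s.ne_zero t.ne_zero])

/-- The first index. -/
abbrev i0 : Fin n := ⟨0, by omega⟩

/-- The second index. -/
abbrev i1 : Fin n := ⟨1, by omega⟩

theorem lv01 : lv (Sum.inl (i0 hn) : SIdx n) ≠ lv (Sum.inr (i1 hn) : SIdx n) := by
  simp [lv, Fin.ext_iff]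

/-- The factors of the parametrised torus. -/
def comp (i : Fin n) : (Fin n → Fˣ) →* tsub F n :=
  if h : i0 hn ≠ i then (hhom hn (a := Sum.inl (i0 hn)) (b := Sum.inl i) h).comp (Pi.evalMonoidHom _ i) else 1

/-- The parametrised torus. -/
noncomputable def Φ : (Fin n → Fˣ) × Fˣ →* U F n :=
  letI : CommGroup (tsub F n) := tsubGroup hn
  MonoidHom.mk' (fun y => (((∏ i, comp hn i y.1) * hhom hn (lv01 hn) y.2 : tsub F n) : U F n)) fun y z => by
    rw [← Subgroup.coe_mul]
    congr 1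
    simp only [Prod.fst_mul, Prod.snd_mul, map_mul, Finset.prod_mul_distrib]
    exact mul_mul_mul_comm _ _ _ _

/-- The diagonal of the parametrised torus. -/
def Cf (y : (Fin n → Fˣ) × Fˣ) : SIdx n → F :=
  (∏ i ∈ Finset.univ.erase (i0 hn), hc (Sum.inl (i0 hn)) (Sum.inl i) ((y.1 i : Fˣ) : F)) *
    hc (Sum.inl (i0 hn)) (Sum.inr (i1 hn)) (y.2 : F)

theorem isTor_Φ (y : (Fin n → Fˣ) × Fˣ) : IsTor (Φ hn y) (Cf hn y) := by
  classical
  letI : CommGroup (tsub F n) := tsubGroup hn
  have key : ∀ s : Finset (Fin n), IsTor ((∏ i ∈ s, comp hn i y.1 : tsub F n) : U F n)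
      (∏ i ∈ s.erase (i0 hn), hc (Sum.inl (i0 hn)) (Sum.inl i) ((y.1 i : Fˣ) : F)) := by
    intro s
    induction s using Finset.induction_on with
    | empty =>
      rw [Finset.prod_empty, Finset.erase_empty, Finset.prod_empty]
      exact IsTor.one
    | @insert i s hi ih =>
      rw [Finset.prod_insert hi]
      rw [Subgroup.coe_mul]
      by_cases h : i0 hn ≠ i
      · rw [Finset.erase_insert_of_ne h.symm, Finset.prod_insert (fun e => hi (Finset.mem_of_mem_erase e))]
        refine IsTor.mul ?_ ih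
        rw [comp, dif_pos h]
        exact isTor_hh hn (show lv (Sum.inl (i0 hn) : SIdx n) ≠ lv (Sum.inl i : SIdx n) from h) (y.1 i).ne_zero
      · rw [not_not] at h
        subst h
        rw [Finset.erase_insert hi, comp, dif_neg (not_not.2 rfl)]
        rw [Finset.erase_eq_of_notMem hi] at ih
        simpa using ih
  exact (key Finset.univ).mul (isTor_hh hn (lv01 hn) y.2.ne_zero)

theorem Cf_inl (y : (Fin n → Fˣ) × Fˣ) {j : Fin n} (hj : j ≠ i0 hn) :
    Cf hn y (Sum.inl j) = ((y.1 j : Fˣ) : F)⁻¹ * (if j = i1 hn then (y.2 : F) else 1) := by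
  classical
  simp only [Cf, Pi.mul_apply, Finset.prod_apply]
  congr 1
  · rw [Finset.prod_eq_single_of_mem j (Finset.mem_erase.2 ⟨hj, Finset.mem_univ _⟩)
      (fun i hi hij => by simp [hc, hj, Ne.symm hij])]
    simp [hc, hj]
  · simp [hc, hj]

theorem Cf_zero (y : (Fin n → Fˣ) × Fˣ) :
    Cf hn y (Sum.inl (i0 hn)) = (∏ i ∈ Finset.univ.erase (i0 hn), ((y.1 i : Fˣ) : F)) * (y.2 : F) := by
  classical
  simp only [Cf, Pi.mul_apply, Finset.prod_apply]
  refine congrArg₂ (· * ·) (Finset.prod_congr rfl fun i _ => ?_) ?_ <;> simp [hc]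

theorem hh_mem_range {a b : SIdx n} (h : lv a ≠ lv b) {t : F} (ht : t ≠ 0) :
    hh a b t ∈ (Φ (F := F) hn).range := by
  classical
  letI : CommGroup (tsub F n) := tsubGroup hn
  set R := (Φ (F := F) hn).range
  set o : SIdx n := Sum.inl (i0 hn)
  set m : SIdx n := Sum.inr (i1 hn) with hm
  have e01 : i0 hn ≠ i1 hn := by simp [Fin.ext_iff]
  have pz : ∀ j, i0 hn ≠ j → ∀ {t : F}, t ≠ 0 → hh o (Sum.inl j) t ∈ R := by
    intro j hj t ht
    refine ⟨(Pi.mulSingle j (Units.mk0 t ht), 1), ?_⟩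
    show (((∏ i, comp hn i (Pi.mulSingle j (Units.mk0 t ht))) * hhom hn (lv01 hn) 1 : tsub F n) : U F n) = _
    rw [map_one, mul_one, Finset.prod_eq_single j ?_ (by simp)]
    · rw [comp, dif_pos hj]
      simp [hhom, o]
    · intro i _ hij
      simp only [comp]
      split_ifs
      · simp [Pi.mulSingle_eq_of_ne hij]
      · rfl
  have pg : ∀ {t : F}, t ≠ 0 → hh o m t ∈ R := by
    intro t ht
    refine ⟨(1, Units.mk0 t ht), ?_⟩
    show (((∏ i, comp hn i 1) * hhom hn (lv01 hn) (Units.mk0 t ht) : tsub F n) : U F n) = _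
    rw [Finset.prod_eq_one fun i _ => map_one _, one_mul]
    rfl
  have pp : ∀ i j : Fin n, i ≠ j → ∀ {t : F}, t ≠ 0 → hh (Sum.inl i) (Sum.inl j) t ∈ R := by
    intro i j hij t ht
    by_cases hi : i = i0 hn
    · subst hi; exact pz j hij ht
    by_cases hj : j = i0 hn
    · subst hj
      rw [hh_swap hn (show lv (Sum.inl (i0 hn) : SIdx n) ≠ lv (Sum.inl i) from Ne.symm hi) ht]
      exact pz i (Ne.symm hi) (inv_ne_zero ht)
    rw [hh_split (b := o) (show lv (Sum.inl i : SIdx n) ≠ lv o from hi)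
      (show lv o ≠ lv (Sum.inl j : SIdx n) from Ne.symm hj) hij ht,
      hh_swap hn (show lv o ≠ lv (Sum.inl i : SIdx n) from Ne.symm hi) ht]
    exact mul_mem (pz i (Ne.symm hi) (inv_ne_zero ht)) (pz j (Ne.symm hj) ht)
  have flip : ∀ i j : Fin n, i ≠ j → ∀ {t : F}, t ≠ 0 →
      hh (Sum.inl i) (Sum.inr j) t = hh (Sum.inl j) (Sum.inr i) t := fun i j hij t ht =>
    (hh_symm hn (show lv (Sum.inl i : SIdx n) ≠ lv (Sum.inr j : SIdx n) from hij) ht).symm
  have step : ∀ i k j : Fin n, i ≠ k → k ≠ j → i ≠ j → ∀ {t : F}, t ≠ 0 →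
      hh (Sum.inl k) (Sum.inr j) t ∈ R → hh (Sum.inl i) (Sum.inr j) t ∈ R := by
    intro i k j h1 h2 h3 t ht hr
    rw [hh_split (b := Sum.inl k) (show lv (Sum.inl i : SIdx n) ≠ lv (Sum.inl k : SIdx n) from h1)
      (show lv (Sum.inl k : SIdx n) ≠ lv (Sum.inr j : SIdx n) from h2) h3 ht]
    exact mul_mem (pp i k h1 ht) hr
  have pm : ∀ i j : Fin n, i ≠ j → ∀ {t : F}, t ≠ 0 → hh (Sum.inl i) (Sum.inr j) t ∈ R := by
    have p1 : ∀ i, i ≠ i1 hn → ∀ {t : F}, t ≠ 0 → hh (Sum.inl i) (Sum.inr (i1 hn)) t ∈ R := by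
      intro i hi t ht
      by_cases h0 : i = i0 hn
      · subst h0; exact pg ht
      exact step i (i0 hn) (i1 hn) h0 e01 hi ht (pg ht)
    have p0 : ∀ i, i ≠ i0 hn → ∀ {t : F}, t ≠ 0 → hh (Sum.inl i) (Sum.inr (i0 hn)) t ∈ R := by
      intro i hi t ht
      have b : hh (Sum.inl (i1 hn)) (Sum.inr (i0 hn)) t ∈ R := by
        rw [flip _ _ e01.symm ht]; exact pg ht
      by_cases h1 : i = i1 hn
      · subst h1; exact b
      exact step i (i1 hn) (i0 hn) h1 e01.symm hi ht b
    intro i j hij t ht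
    by_cases hj1 : j = i1 hn
    · subst hj1; exact p1 i hij ht
    by_cases hj0 : j = i0 hn
    · subst hj0; exact p0 i hij ht
    have b : hh o (Sum.inr j) t ∈ R := by
      rw [flip _ _ (Ne.symm hj0) ht]; exact p0 j hj0 ht
    by_cases hi : i = i0 hn
    · subst hi; exact b
    exact step i (i0 hn) j hi (Ne.symm hj0) hij ht b
  rcases a with i | i <;> rcases b with j | j
  · exact pp i j h ht
  · exact pm i j h ht
  · rw [hh_swap hn (show lv (Sum.inl j : SIdx n) ≠ lv (Sum.inr i : SIdx n) from Ne.symm h) ht]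
    exact pm j i (Ne.symm h) (inv_ne_zero ht)
  · have := hh_symm hn (show lv (Sum.inl j : SIdx n) ≠ lv (Sum.inl i : SIdx n) from Ne.symm h) ht
    rw [show hh (Sum.inr i) (Sum.inr j) t = hh (Sum.inl j) (Sum.inl i) t from this]
    exact pp j i (Ne.symm h) ht

theorem H_le_range : (cover F n).H ≤ (Φ (F := F) hn).range := by
  rw [DCover.H, Subgroup.closure_le]
  rintro _ ⟨r, t, u, ht, hu, rfl⟩
  have e : (univ F n).w r.1.1 r.1.2 t * (univ F n).w r.1.1 r.1.2 u =
      hh r.1.1 r.1.2 t * (hh r.1.1 r.1.2 (-u))⁻¹ := by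
    rw [hh, hh, w_neg' r.ne u, w_neg' r.ne (1 : F)]; group
  show (univ F n).w r.1.1 r.1.2 t * (univ F n).w r.1.1 r.1.2 u ∈ (Φ hn).range
  rw [e]
  exact mul_mem (hh_mem_range hn r.ne ht) (inv_mem (hh_mem_range hn r.ne (neg_ne_zero.2 hu)))

/-! ### Triangular elements with unit diagonal -/

omit [Finite F] in
theorem flag_decomp {y : SIdx n → F} {p : SIdx n} (hy : y ∈ DCover.flag (pos p + 1)) :
    y - y p • DModel.ev p ∈ DCover.flag (F := F) (pos p) := by
  intro q hq
  by_cases h : q = p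
  · subst h; simp [DModel.ev_apply]
  · have : pos p + 1 ≤ pos q := by
      rcases lt_or_eq_of_le hq with h' | h'
      · exact h'
      · exact absurd (pos_inj h') (Ne.symm h)
    simp [DModel.ev_apply, h, hy q this]

omit [Finite F] in
theorem ev_mem_flag (p : SIdx n) : (DModel.ev p : SIdx n → F) ∈ DCover.flag (pos p + 1) := by
  intro q hq
  rw [DModel.ev_apply, if_neg]
  rintro rfl
  omega

variable (F n) in
/-- Triangular elements with unit diagonal. -/
def UT1 : Subgroup (GL (SIdx n) F) where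
  carrier := {g | g ∈ DCover.UT ∧ ∀ p, act g (DModel.ev p) p = 1}
  one_mem' := ⟨one_mem _, fun p => by simp [act_one, DModel.ev_apply]⟩
  mul_mem' := by
    rintro g h ⟨hg, hg1⟩ ⟨hh', hh1⟩
    refine ⟨mul_mem hg hh', fun p => ?_⟩
    have hy := (hh' _ _ (ev_mem_flag p)).1
    have hd := flag_decomp hy
    have h0 := (hg _ _ hd).1 p le_rfl
    rw [act_mul]
    simp only [map_sub, map_smul, Pi.sub_apply, Pi.smul_apply, hh1, hg1, smul_eq_mul, mul_one] at h0
    linear_combination h0
  inv_mem' := by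
    rintro g ⟨hg, hg1⟩
    refine ⟨inv_mem hg, fun p => ?_⟩
    have hy := (hg _ _ (ev_mem_flag p)).2
    have hd := flag_decomp hy
    have h0 := (hg _ _ hd).1 p le_rfl
    rw [map_sub, map_smul, ← act_mul, mul_inv_cancel, act_one, Pi.sub_apply, Pi.smul_apply, hg1,
      DModel.ev_apply, if_pos rfl, smul_eq_mul, mul_one] at h0
    linear_combination -h0

omit [Finite F] in
theorem map_U_le : (((cover F n).data hn).U).map (cover F n).θ ≤ UT1 F n := by
  rw [Subgroup.map_le_iff_le_comap]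
  refine iSup₂_le fun r hr => ?_
  rintro _ ⟨t, rfl⟩
  refine ⟨(cover F n).map_X_le hr ⟨_, ⟨t, rfl⟩, rfl⟩, fun p => ?_⟩
  rw [show (cover F n).θ ((cover F n).R.x r.1.1 r.1.2 t) = DModel.E r.1.1 r.1.2 t from
    (cover F n).map_x _ _ r.ne t, DModel.act_E r.ne]
  have hne := lv_ne.1 r.ne
  by_cases h1 : p = r.1.1
  · subst h1
    simp [DModel.ev_apply, Ne.symm hne.1, hne.2]
  by_cases h2 : p = ng r.1.2
  · subst h2
    have : ng r.1.1 ≠ ng r.1.2 := fun e => hne.1 (ng_inj.1 e)
    simp [DModel.ev_apply, h1, this]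
  simp [DModel.ev_apply, h1, h2]

/-! ### The scalars -/

/-- `u` maps to the scalar `ε`. -/
def Scal (u : U F n) (ε : F) : Prop := DModel.Mono ((cover F n).θ u) 1 fun _ => ε

omit [Finite F] in
theorem central_of_scalar {M : Type*} [Group M] (θ : M →* GL (SIdx n) F) (hc : θ.ker ≤ Subgroup.center M)
    (hperf : commutator M = ⊤) {u : M} {ε : F} (hs : ∀ x, act (θ u) x = ε • x) : u ∈ Subgroup.center M := by
  have hz : ∀ x : M, u * x * u⁻¹ * x⁻¹ ∈ Subgroup.center M := by
    intro x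
    apply hc
    rw [MonoidHom.mem_ker, map_mul, map_mul, map_mul, map_inv, map_inv, mul_inv_eq_one, mul_inv_eq_iff_eq_mul]
    exact gl_ext fun v => by rw [act_mul, act_mul, hs, hs, map_smul]
  let f : M →* Subgroup.center M := MonoidHom.mk' (fun x => ⟨_, hz x⟩) fun x y => Subtype.ext (by
    show u * (x * y) * u⁻¹ * (x * y)⁻¹ = u * x * u⁻¹ * x⁻¹ * (u * y * u⁻¹ * y⁻¹)
    calc u * (x * y) * u⁻¹ * (x * y)⁻¹ = u * x * u⁻¹ * ((u * y * u⁻¹ * y⁻¹) * x⁻¹) := by group
      _ = u * x * u⁻¹ * (x⁻¹ * (u * y * u⁻¹ * y⁻¹)) := by rw [← Subgroup.mem_center_iff.1 (hz y) x⁻¹]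
      _ = _ := by group)
  refine Subgroup.mem_center_iff.2 fun x => ?_
  have hle : commutator M ≤ f.ker := by
    rw [commutator_def, Subgroup.commutator_le]
    intro a _ b _
    rw [MonoidHom.mem_ker, map_commutatorElement, commutatorElement_eq_one_iff_commute]
    exact Subtype.ext (Subgroup.mem_center_iff.1 (f b).2 _)
  rw [hperf] at hle
  have hx : f x = 1 := MonoidHom.mem_ker.1 (hle (Subgroup.mem_top x))
  have : u * x * u⁻¹ * x⁻¹ = 1 := congrArg Subtype.val hx
  rw [mul_inv_eq_one, mul_inv_eq_iff_eq_mul] at this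
  exact this.symm

include hn in
theorem scal_central {u : U F n} {ε : F} (h : Scal u ε) : u ∈ Subgroup.center (U F n) :=
  central_of_scalar (cover F n).θ ((cover F n).ker_le_center hn closure_x) (perfect hn)
    fun x => funext fun p => h x p

include hn in
theorem theta_ker_le_center : (cover F n).θ.ker ≤ Subgroup.center (U F n) :=
  (cover F n).ker_le_center hn closure_x

theorem scal_mem_range {g : U F n} {ε : F} (hs : Scal g ε) :
    ∃ y, Φ hn y = g ∧ ∀ p, Cf hn y p = ε := by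
  classical
  set C := cover F n
  have ax := C.axioms hn
  have hmono : ∀ x, act (C.θ g) x = ε • x := fun x => funext fun p => hs x p
  have hgUT : C.θ g ∈ DCover.UT := by
    intro k x hx
    have hε : ∀ y : SIdx n → F, y ∈ DCover.flag k → act (C.θ g) y ∈ DCover.flag k := fun y hy p hp => by
      rw [hmono]; simp [hy p hp]
    refine ⟨hε x hx, fun p hp => ?_⟩
    have h1 := congrFun (hmono (act (C.θ g)⁻¹ x)) p
    rw [← act_mul, mul_inv_cancel, act_one, hx p hp, Pi.smul_apply, smul_eq_mul] at h1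
    rcases eq_or_ne ε 0 with rfl | he
    · have h2 := hmono (act (C.θ g)⁻¹ (DModel.ev p))
      rw [← act_mul, mul_inv_cancel, act_one, zero_smul] at h2
      have h3 := congrFun h2 p
      simp [DModel.ev_apply] at h3
    · exact (mul_eq_zero.1 h1.symm).resolve_left he
  have hgrp : (C.data hn).grp = ⊤ := by
    rw [eq_top_iff, ← closure_x, Subgroup.closure_le]
    rintro _ ⟨a, b, h, t, rfl⟩
    exact C.x_le_grp hn h t
  have hB : g ∈ (C.data hn).B := by
    obtain ⟨l, hl⟩ := RootBN.Data.exists_cell ax (hgrp.symm ▸ Subgroup.mem_top g)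
    by_contra hgB
    have hne : (C.data hn).wl l ≠ 1 := fun e => hgB ((RootBN.Data.mem_cell_one ax).1 (e ▸ hl))
    obtain ⟨i, hi⟩ := RootBN.Data.exists_simp_neg ax l hne
    obtain ⟨b, hb, c, hc, e⟩ :=
      (RootBN.Data.mem_cell_iff ax (RootBN.Data.nw_mem_N l) (RootBN.Data.acts_nw ax l)).1 hl
    set w := (C.data hn).nw l
    have hUT : ∀ {y}, y ∈ (C.data hn).B → C.θ y ∈ DCover.UT := fun hy => C.map_B_le hn ⟨_, hy, rfl⟩
    have hw : C.θ w ∈ DCover.UT := by
      have h1 : C.θ b * C.θ w * C.θ c = C.θ g := by rw [← map_mul, ← map_mul, ← e]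
      rw [show C.θ w = (C.θ b)⁻¹ * C.θ g * (C.θ c)⁻¹ by rw [← h1]; group]
      exact mul_mem (mul_mem (inv_mem (hUT hb)) hgUT) (inv_mem (hUT hc))
    set s := simpR (show 2 ≤ n by omega) i
    have hx : C.R.x s.1.1 s.1.2 1 ∈ (C.data hn).X s := ⟨1, rfl⟩
    obtain ⟨v, hv⟩ := (RootBN.Data.acts_nw ax l s _).2 hx
    have hneg : ¬ IsPos ((C.data hn).wl l s) := hi
    set r := (C.data hn).wl l s
    have hm : C.θ (C.R.x r.1.1 r.1.2 v) ∈ DCover.UT := by
      rw [hv, map_mul, map_mul, map_inv]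
      exact mul_mem (mul_mem hw (hUT (RootBN.Data.X_simp_le_B ax i hx))) (inv_mem hw)
    rw [C.map_x _ _ r.ne] at hm
    have hlt : pos r.1.2 < pos r.1.1 := by
      rcases Nat.lt_or_ge (pos r.1.1) (pos r.1.2) with h | h
      · exact absurd ((isPos_iff r).2 h) hneg
      · exact lt_of_le_of_ne h fun e => (lv_ne.1 r.ne).1 (pos_inj e).symm
    rw [DCover.E_not_UT r.ne hlt hm, C.R.x_zero r.ne, eq_comm, conj_eq_one_iff, ← C.R.x_zero s.ne] at hv
    exact one_ne_zero (C.x_inj s.ne (congrArg C.θ hv))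
  obtain ⟨u, hu, h, hh', e⟩ := (RootBN.Data.mem_B_iff ax).1 hB
  obtain ⟨y, rfl⟩ : h ∈ (Φ (F := F) hn).range := H_le_range hn hh'
  have hy := (isTor_Φ hn y).mono
  have hu1 : C.θ u ∈ UT1 F n := map_U_le hn ⟨u, hu, rfl⟩
  have hdiag : ∀ (x : SIdx n → F) (p : SIdx n), ε * x p = act (C.θ u) (fun q => Cf hn y q * x q) p := by
    intro x p
    rw [← show act (C.θ (Φ hn y)) x = fun (q : SIdx n) => Cf hn y q * x q from funext fun q => hy x q, ← act_mul,
      ← map_mul, ← e]
    exact (hs x p).symm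
  have hC : ∀ p, Cf hn y p = ε := by
    intro p
    have h1 := hdiag (DModel.ev p) p
    have h2 : (fun q => Cf hn y q * (DModel.ev p : SIdx n → F) q) = Cf hn y p • DModel.ev p := by
      funext q
      by_cases hq : q = p
      · subst hq; simp
      · simp [DModel.ev_apply, hq]
    rw [h2, map_smul, Pi.smul_apply, hu1.2 p, DModel.ev_apply, if_pos rfl] at h1
    simpa using h1.symm
  have hεne : ε ≠ 0 := by
    have := (isTor_Φ hn y).inv (Sum.inl (i0 hn))
    rw [hC, hC] at this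
    exact left_ne_zero_of_mul (by rw [this]; exact one_ne_zero)
  have hθu : C.θ u = 1 := gl_ext fun x => by
    funext p
    have h1 := hdiag x p
    rw [show (fun q => Cf hn y q * x q) = ε • x from funext fun q => by rw [hC]; rfl, map_smul, Pi.smul_apply,
      smul_eq_mul] at h1
    rw [act_one]
    exact (mul_left_cancel₀ hεne h1).symm
  refine ⟨y, ?_, hC⟩
  rw [e, C.U_eq_one hn hu hθu, one_mul]

/-- The parameters of the scalars. -/
def par : Subgroup (Fˣ × Fˣ) where
  carrier := {p | p.1 * p.1 = 1 ∧ p.2 * p.2 = p.1 ^ n}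
  one_mem' := ⟨by simp, by simp⟩
  mul_mem' := by
    rintro a b ⟨h1, h2⟩ ⟨h3, h4⟩
    exact ⟨by rw [Prod.fst_mul, mul_mul_mul_comm, h1, h3, one_mul],
      by rw [Prod.snd_mul, Prod.fst_mul, mul_mul_mul_comm, h2, h4, mul_pow]⟩
  inv_mem' := by
    rintro a ⟨h1, h2⟩
    exact ⟨by rw [Prod.fst_inv, ← mul_inv, h1, inv_one], by rw [Prod.snd_inv, Prod.fst_inv, ← mul_inv, h2, inv_pow]⟩

/-- The torus parameters of a scalar. -/
def sec : Fˣ × Fˣ →* (Fin n → Fˣ) × Fˣ :=
  MonoidHom.mk' (fun p => (fun i => if i = i0 hn then 1 else if i = i1 hn then p.1 * p.2 else p.1, p.2))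
    fun a b => by
      refine Prod.ext (funext fun i => ?_) rfl
      simp only [Prod.mk_mul_mk, Pi.mul_apply, Prod.fst_mul, Prod.snd_mul]
      split_ifs
      · rw [one_mul]
      · exact mul_mul_mul_comm _ _ _ _
      · rfl

/-- The scalars in the universal group. -/
noncomputable def zhom : par (F := F) (n := n) →* U F n := ((Φ hn).comp (sec hn)).comp (Subgroup.subtype _)

theorem scal_zhom (p : par (F := F) (n := n)) : Scal (zhom hn p) (p.1.1 : F) := by
  classical
  obtain ⟨⟨ε, t⟩, h1, h2⟩ := p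
  have h1' : (ε : F) * ε = 1 := by rw [← Units.val_mul, h1, Units.val_one]
  have hε : (ε : F)⁻¹ = ε := inv_eq_of_mul_eq_one_right h1'
  have hpos : ∀ j, Cf hn (sec hn (ε, t)) (Sum.inl j) = (ε : F) := by
    intro j
    by_cases hj : j = i0 hn
    · subst hj
      rw [Cf_zero]
      have hmem : i1 hn ∈ Finset.univ.erase (i0 hn) := by simp [Fin.ext_iff]
      rw [← Finset.mul_prod_erase _ _ hmem, Finset.prod_congr rfl (g := fun _ => (ε : F))
        (fun i hi => by
          simp only [Finset.mem_erase] at hi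
          simp [sec, hi.1, hi.2.1]), Finset.prod_const]
      have hc : ((Finset.univ.erase (i0 hn)).erase (i1 hn)).card = n - 2 := by
        rw [Finset.card_erase_of_mem hmem, Finset.card_erase_of_mem (Finset.mem_univ _), Finset.card_univ,
          Fintype.card_fin]
        omega
      rw [hc]
      simp only [sec, MonoidHom.mk'_apply]
      rw [if_neg (show i1 hn ≠ i0 hn by simp [Fin.ext_iff])]
      simp only [if_true, Units.val_mul]
      have h2' : (t : F) * t = (ε : F) ^ n := by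
        rw [← Units.val_mul, h2, Units.val_pow_eq_pow_val]
      obtain ⟨m, rfl⟩ : ∃ m, n = m + 2 := ⟨n - 2, by omega⟩
      rw [Nat.add_sub_cancel]
      have hpow : ((ε : F) ^ m) * (ε : F) ^ m = 1 := by rw [← mul_pow, h1', one_pow]
      linear_combination (ε : F) * (ε : F) ^ m * h2' + (ε : F) * ((ε : F) ^ m * (ε : F) ^ m) * h1' + (ε : F) * hpow
    · rw [Cf_inl hn _ hj]
      by_cases h' : j = i1 hn
      · subst h'
        simp only [sec, MonoidHom.mk'_apply, if_neg hj, if_true, Units.val_mul]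
        rw [mul_inv, mul_assoc, inv_mul_cancel₀ t.ne_zero, mul_one, hε]
      · simp [sec, hj, h', hε]
  intro x p
  have hm := (isTor_Φ hn (sec hn (ε, t))).mono x p
  have hi := (isTor_Φ hn (sec hn (ε, t))).inv p
  have : Cf hn (sec hn (ε, t)) p = (ε : F) := by
    rcases p with j | j
    · exact hpos j
    · change Cf hn (sec hn (ε, t)) (Sum.inr j) * Cf hn (sec hn (ε, t)) (Sum.inl j) = 1 at hi
      rw [hpos] at hi
      rw [eq_inv_of_mul_eq_one_left hi, hε]
  rw [this] at hm
  exact hm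

theorem exists_zhom {g : U F n} {ε : F} (h : ε * ε = 1) (hs : Scal g ε) : ∃ p, zhom hn p = g := by
  classical
  obtain ⟨y, rfl, hy⟩ := scal_mem_range hn hs
  have hε0 : ε ≠ 0 := left_ne_zero_of_mul (by rw [h]; exact one_ne_zero)
  set e := Units.mk0 ε hε0 with he
  have e01 : i1 hn ≠ i0 hn := by simp [Fin.ext_iff]
  have h1 : ∀ j, j ≠ i0 hn → y.1 j = if j = i1 hn then e * y.2 else e := by
    intro j hj
    have := hy (Sum.inl j)
    rw [Cf_inl hn y hj] at this
    have hne := (y.1 j).ne_zero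
    apply Units.ext
    split_ifs at this ⊢ with h'
    · rw [inv_mul_eq_iff_eq_mul₀ hne] at this
      rw [Units.val_mul, he, Units.val_mk0, this]
      linear_combination -((y.1 j : Fˣ) : F) * h
    · rw [mul_one] at this
      rw [he, Units.val_mk0, ← inv_inj, this]
      exact (inv_eq_of_mul_eq_one_right h).symm
  have h0 : Φ hn (sec hn (e, y.2)) = Φ hn y := by
    letI : CommGroup (tsub F n) := tsubGroup hn
    show (((∏ i, comp hn i _) * hhom hn (lv01 hn) y.2 : tsub F n) : U F n) =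
      (((∏ i, comp hn i y.1) * hhom hn (lv01 hn) y.2 : tsub F n) : U F n)
    congr 2
    refine Finset.prod_congr rfl fun i _ => ?_
    simp only [comp]
    split_ifs with hi
    · simp only [MonoidHom.comp_apply, Pi.evalMonoidHom_apply]
      congr 1
      rw [h1 i (Ne.symm hi)]
      show (if i = i0 hn then (1 : Fˣ) else _) = _
      rw [if_neg (Ne.symm hi)]
    · rfl
  refine ⟨⟨(e, y.2), Units.ext (by simp [he, h]), ?_⟩, h0⟩
  -- the first coordinate determines the square of the last parameter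
  have hz := hy (Sum.inl (i0 hn))
  rw [Cf_zero] at hz
  have hmem : i1 hn ∈ Finset.univ.erase (i0 hn) := by simp [Fin.ext_iff]
  rw [← Finset.mul_prod_erase _ _ hmem, h1 _ e01, if_pos rfl, Finset.prod_congr rfl (g := fun _ => ε)
    (fun i hi => by
      simp only [Finset.mem_erase] at hi
      rw [h1 i hi.2.1, if_neg hi.1]; rfl), Finset.prod_const] at hz
  have hc : ((Finset.univ.erase (i0 hn)).erase (i1 hn)).card = n - 2 := by
    rw [Finset.card_erase_of_mem hmem, Finset.card_erase_of_mem (Finset.mem_univ _), Finset.card_univ,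
      Fintype.card_fin]
    omega
  rw [hc, Units.val_mul, he, Units.val_mk0] at hz
  apply Units.ext
  simp only [Units.val_mul, Units.val_pow_eq_pow_val, he, Units.val_mk0]
  obtain ⟨m, rfl⟩ : ∃ m, n = m + 2 := ⟨n - 2, by omega⟩
  rw [Nat.add_sub_cancel] at hz
  have hpow : (ε ^ m) * ε ^ m = 1 := by rw [← mul_pow, h, one_pow]
  linear_combination ε * ε ^ m * hz - ((y.2 : F) * y.2 * (ε ^ m * ε ^ m)) * h - (y.2 : F) * y.2 * hpow

theorem eq_one_of_zhom {p : par (F := F) (n := n)} (h : zhom hn p = 1) : p.1.1 = 1 := by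
  have h1 := scal_zhom hn p
  rw [h] at h1
  have := h1 (DModel.ev (Sum.inl (i0 hn))) (Sum.inl (i0 hn))
  simp only [map_one, act_one, Equiv.Perm.one_apply, DModel.ev_apply, if_true, mul_one] at this
  exact Units.ext this.symm

end Cfsg.Agent.MultD
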