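import Cfsg.Agent.Lib.MultD.Universal
import Cfsg.Agent.Lib.Schur.SLn
import Cfsg.Agent.Lib.Schur.PerfectCover

/-!
The relations of type `D_n` lift through central extensions: each frame lifts because `SL_n` has trivial
multiplier, the lifts agree on common frames, and the remaining relation follows from those inside frames.
-/

set_option autoImplicit false

namespace Cfsg.Agent.MultD

open Cfsg.Agent.CurtisTits DType SL2Presentation
open scoped commutatorElement

universe u

variable {F : Type u} [Field F] [Finite F] {n : ℕ}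

section unique

variable {Γ G : Type u} [Group Γ] [Group G] {π : Γ →* G}

/-- Relations of type `A` in a central extension are determined by their images. -/
theorem rels_unique {m : ℕ} (hm : 3 ≤ m) (hz : π.ker ≤ Subgroup.center Γ) (S S' : Rels F m Γ)
    (h : ∀ i j, i ≠ j → ∀ t, π (S.x i j t) = π (S'.x i j t)) {i j : Fin m} (hij : i ≠ j) (t : F) :
    S.x i j t = S'.x i j t := by
  obtain ⟨A, hA⟩ := exists_hom hm S
  obtain ⟨B, hB⟩ := exists_hom hm S'
  have he : π.comp A = π.comp B := by
    refine MonoidHom.eq_of_eqOn_dense GL.closure_elementaryTransvections ?_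
    rintro _ ⟨i, j, hij, c, rfl⟩
    show π (A _) = π (B _)
    rw [hA i j hij, hB i j hij]
    exact h i j hij c
  have hAB : A = B := by
    refine MonoidHom.eq_of_eqOn_dense (s := commutatorSet (Matrix.SpecialLinearGroup (Fin m) F))
      (by rw [← commutator_eq_closure, GL.SL_commutator_eq_top_of_three_le (by simpa using hm)]) ?_
    rintro _ ⟨a, b, rfl⟩
    rw [map_commutatorElement, map_commutatorElement]
    exact Schur.commutator_congr hz (DFunLike.congr_fun he a) (DFunLike.congr_fun he b)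
  rw [← hA i j hij, ← hB i j hij, hAB]

end unique

/-- The indices with prescribed signs. -/
def fs (ε : Fin n → Bool) (i : Fin n) : SIdx n := if ε i then .inr i else .inl i

omit [Finite F] in
theorem lv_fs (ε : Fin n → Bool) (i : Fin n) : lv (fs ε i) = i := by
  unfold fs; split_ifs <;> rfl

theorem fs_inj (ε : Fin n → Bool) : Function.Injective (lv ∘ fs ε) := fun i j h => by
  simpa [lv_fs] using h

/-- The sign of an index. -/
def sgnb (a : SIdx n) : Bool := Sum.isRight a

theorem fs_of_eq {ε : Fin n → Bool} {a : SIdx n} (h : ε (lv a) = sgnb a) : fs ε (lv a) = a := by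
  unfold fs; rw [h]; rcases a with i | i <;> rfl

theorem exists_four (hn : 4 ≤ n) (i j k : Fin n) : ∃ m, m ≠ i ∧ m ≠ j ∧ m ≠ k := by
  have : ({i, j, k} : Finset (Fin n))ᶜ.Nonempty := by
    rw [← Finset.card_pos, Finset.card_compl, Fintype.card_fin]
    have := Finset.card_le_three (a := i) (b := j) (c := k)
    omega
  obtain ⟨m, hm⟩ := this
  simp at hm
  exact ⟨m, hm.1, hm.2.1, hm.2.2⟩

/-- The relations of type `D_n` lift as soon as their frames do. -/
theorem exists_lift_of_frames (hn : 4 ≤ n) {Γ G : Type u} [Group Γ] [Group G] (π : Γ →* G)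
    (hz : π.ker ≤ Subgroup.center Γ) (φ : RelsD F n G)
    (hR : ∀ ε : Fin n → Bool, ∃ R : Rels F n Γ,
      ∀ i j, i ≠ j → ∀ t, π (R.x i j t) = φ.x (fs ε i) (fs ε j) t) :
    ∃ S : RelsD F n Γ, ∀ a b, lv a ≠ lv b → ∀ t, π (S.x a b t) = φ.x a b t := by
  classical
  haveI := Fintype.ofFinite F
  have h3 : 3 ≤ n := by omega
  choose R hR using hR
  -- frames which agree on three indices agree there
  have ag3 : ∀ ε ε' : Fin n → Bool, ∀ i j k : Fin n, i ≠ j → j ≠ k → i ≠ k → ε i = ε' i → ε j = ε' j → ε k = ε' k →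
      ∀ t, (R ε).x i j t = (R ε').x i j t := by
    intro ε ε' i j k hij hjk hik hi hj hk t
    have hinj : Function.Injective ![i, j, k] := by
      intro p q h; fin_cases p <;> fin_cases q <;> simp_all [eq_comm]
    have key := rels_unique le_rfl hz (restrict (R ε) _ hinj) (restrict (R ε') _ hinj) (fun p q hpq s => by
      show π ((R ε).x _ _ s) = π ((R ε').x _ _ s)
      rw [hR ε _ _ (hinj.ne hpq), hR ε' _ _ (hinj.ne hpq)]
      have e : ∀ p : Fin 3, fs ε (![i, j, k] p) = fs ε' (![i, j, k] p) := by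
        intro p; fin_cases p <;> simp [fs, hi, hj, hk] <;> rfl
      rw [e, e]) (i := 0) (j := 1) (by decide) t
    exact key
  have ag : ∀ ε ε' : Fin n → Bool, ∀ i j : Fin n, i ≠ j → ε i = ε' i → ε j = ε' j →
      ∀ t, (R ε).x i j t = (R ε').x i j t := by
    intro ε ε' i j hij hi hj t
    obtain ⟨k, hki, hkj, -⟩ := exists_four hn i j i
    obtain ⟨m, hmi, hmj, hmk⟩ := exists_four hn i j k
    let ε'' := Function.update ε k (ε' k)
    rw [ag3 ε ε'' i j m hij hmj.symm hmi.symm (by simp [ε'', hki.symm]) (by simp [ε'', hkj.symm])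
      (by simp [ε'', hmk]) t]
    exact ag3 ε'' ε' i j k hij hkj.symm hki.symm (by simp [ε'', hki.symm, hi]) (by simp [ε'', hkj.symm, hj])
      (by simp [ε'']) t
  let εp : SIdx n → SIdx n → Fin n → Bool := fun a b i =>
    if i = lv a then sgnb a else if i = lv b then sgnb b else false
  let X : SIdx n → SIdx n → F → Γ := fun a b t => (R (εp a b)).x (lv a) (lv b) t
  have X_eq : ∀ (ε : Fin n → Bool) {a b : SIdx n}, lv a ≠ lv b → ε (lv a) = sgnb a → ε (lv b) = sgnb b →
      ∀ t, X a b t = (R ε).x (lv a) (lv b) t := by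
    intro ε a b h ha hb t
    exact ag _ _ _ _ h (by simp [εp, ha]) (by simp [εp, h.symm, hb]) t
  have hX : ∀ a b, lv a ≠ lv b → ∀ t, π (X a b t) = φ.x a b t := by
    intro a b h t
    show π ((R (εp a b)).x (lv a) (lv b) t) = _
    rw [hR _ _ _ h, fs_of_eq (by simp [εp]), fs_of_eq (by simp [εp, h.symm])]
  have hchain : ∀ a b c : SIdx n, lv a ≠ lv b → lv b ≠ lv c → lv a ≠ lv c → ∀ t u,
      X a b t * X b c u = X a c (t * u) * X b c u * X a b t := by
    intro a b c h1 h2 h3' t u
    let ε : Fin n → Bool := fun i => if i = lv a then sgnb a else if i = lv b then sgnb b else sgnb c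
    have ea : ε (lv a) = sgnb a := by simp [ε]
    have eb : ε (lv b) = sgnb b := by simp [ε, h1.symm]
    have ec : ε (lv c) = sgnb c := by simp [ε, h3'.symm, h2.symm]
    rw [X_eq ε h1 ea eb, X_eq ε h2 eb ec, X_eq ε h3' ea ec]
    exact (R ε).chain _ _ _ h1 h2 h3' t u
  have hsymm : ∀ a b : SIdx n, lv a ≠ lv b → ∀ t, X (ng b) (ng a) t = X a b (-t) := by
    intro a b h t
    let ε := εp a b
    let ε' : Fin n → Bool := fun i => !ε i
    have hfs : ∀ i, fs ε' i = ng (fs ε i) := fun i => by cases hb : ε i <;> simp [ε', fs, hb, ng]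
    have key := rels_unique h3 hz (R ε') (dual (R ε)) (fun i j hij s => by
      show π ((R ε').x i j s) = π ((R ε).x j i (-s))
      rw [hR ε' i j hij, hR ε j i hij.symm, hfs, hfs, φ.symm _ _ (by simpa [lv_fs] using hij.symm)])
      (i := lv b) (j := lv a) h.symm t
    have hn' : ∀ p : SIdx n, sgnb (ng p) = !sgnb p := fun p => by rcases p with i | i <;> rfl
    have ea : ε (lv a) = sgnb a := by simp [ε, εp]
    have eb : ε (lv b) = sgnb b := by simp [ε, εp, h.symm]
    rw [X_eq ε' (by rw [lv_ng, lv_ng]; exact h.symm) (by rw [lv_ng, hn']; simp [ε', eb])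
      (by rw [lv_ng, hn']; simp [ε', ea]), lv_ng, lv_ng, key, X_eq ε h ea eb]
    rfl
  -- consistent signs
  have hcons : ∀ a b c d : SIdx n, lv a ≠ lv b → lv c ≠ lv d → a ≠ d → b ≠ c → a ≠ ng d → b ≠ ng c →
      a ≠ ng c → b ≠ ng d → ∀ t u, Commute (X a b t) (X c d u) := by
    intro a b c d h1 h2 had hbc had' hbc' hac hbd t u
    let ε : Fin n → Bool := fun i => decide (Sum.inr i ∈ [a, b, c, d])
    have n1 := lv_ne.1 h1
    have n2 := lv_ne.1 h2
    have hnc : ∀ p ∈ [a, b, c, d], ∀ q ∈ [a, b, c, d], p ≠ ng q := by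
      intro p hp q hq e
      have e' : q = ng p := by rw [e, ng_ng]
      simp only [List.mem_cons, List.not_mem_nil, or_false] at hp hq
      rcases hp with rfl | rfl | rfl | rfl <;> rcases hq with rfl | rfl | rfl | rfl <;>
        first
        | exact ng_ne _ e.symm
        | exact n1.2 e
        | exact n1.2 e'
        | exact n2.2 e
        | exact n2.2 e'
        | exact had' e
        | exact had' e'
        | exact hbc' e
        | exact hbc' e'
        | exact hac e
        | exact hac e'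
        | exact hbd e
        | exact hbd e'
    have he : ∀ p ∈ [a, b, c, d], ε (lv p) = sgnb p := by
      intro p hp
      rcases p with i | i
      · simp only [ε, sgnb, lv, Sum.elim_inl, id, Sum.isRight_inl, decide_eq_false_iff_not]
        exact fun hmem => hnc _ hmem _ hp rfl
      · simp only [ε, sgnb, lv, Sum.elim_inr, id, Sum.isRight_inr, decide_eq_true_eq]
        exact hp
    have ea := he a (by simp)
    have eb := he b (by simp)
    have ec := he c (by simp)
    have ed := he d (by simp)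
    rw [X_eq ε h1 ea eb, X_eq ε h2 ec ed]
    refine (R ε).comm _ _ _ _ h1 h2 ?_ ?_ t u <;> intro e
    · exact had (by rw [← fs_of_eq ea, ← fs_of_eq ed, e])
    · exact hbc (by rw [← fs_of_eq eb, ← fs_of_eq ec, e])
  have hcomm : ∀ a b c d : SIdx n, lv a ≠ lv b → lv c ≠ lv d → a ≠ d → b ≠ c → a ≠ ng c → b ≠ ng d → ∀ t u,
      Commute (X a b t) (X c d u) := by
    intro a b c d h1 h2 had hbc hac hbd t u
    by_cases h : a = ng d ∨ b = ng c
    · have n1 := lv_ne.1 h1
      have n2 := lv_ne.1 h2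
      rw [show X c d u = X (ng d) (ng c) (-u) by rw [hsymm c d h2, neg_neg]]
      refine hcons a b (ng d) (ng c) h1 (by rw [lv_ng, lv_ng]; exact h2.symm) hac hbd ?_ ?_ ?_ ?_ t (-u)
      all_goals rw [ng_ng]
      · rcases h with h | h
        · exact fun e => n2.2 (by rw [← e, h])
        · exact fun e => n1.2 (by rw [e, h, ng_ng])
      · rcases h with h | h
        · exact fun e => n1.2 (by rw [h, e])
        · exact fun e => n2.2 (by rw [← ng_ng c, ← h, e])
      · exact had
      · exact hbc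
    · rw [not_or] at h
      exact hcons a b c d h1 h2 had hbc h.1 h.2 hac hbd t u
  have hadd : ∀ a b : SIdx n, lv a ≠ lv b → ∀ t u, X a b (t + u) = X a b t * X a b u := fun a b h t u =>
    (R (εp a b)).add _ _ h t u
  have hzero : ∀ a b : SIdx n, lv a ≠ lv b → X a b 0 = 1 := fun a b h => psi_zero (hadd a b h)
  have hneg : ∀ a b : SIdx n, lv a ≠ lv b → ∀ t, X a b (-t) = (X a b t)⁻¹ := fun a b h t => by
    apply eq_inv_of_mul_eq_one_left
    rw [← hadd a b h, neg_add_cancel, hzero a b h]
  -- the relation outside the frames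
  have hcomm2 : ∀ a b : SIdx n, lv a ≠ lv b → ∀ t u, Commute (X a b t) (X a (ng b) u) := by
    intro a b h t u
    rcases eq_or_ne t 0 with rfl | ht
    · rw [hzero a b h]; exact Commute.one_left _
    obtain ⟨c, hac, hbc⟩ := RelsD.exists_third h3 a b
    set s := u / t with hs
    set f := X a c (-t)
    set g1 := X c b 1
    set g2 := X c (ng b) s
    set r1 := X a b t with hr1
    set r2 := X a (ng b) u with hr2
    set r3 := X c (ng a) (-u) with hr3
    have hb' : lv a ≠ lv (ng b) := by rwa [lv_ng]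
    have hcb' : lv c ≠ lv (ng b) := by rw [lv_ng]; exact hbc.symm
    have hca' : lv c ≠ lv (ng a) := by rw [lv_ng]; exact hac.symm
    have e1 : g1 * f * g1⁻¹ = r1 * f := by
      have := hchain a c b hac hbc.symm h (-t) 1
      rw [mul_one, hneg a b h] at this
      rw [hr1, show g1 = X c b 1 from rfl]
      calc X c b 1 * f * (X c b 1)⁻¹ = X a b t * ((X a b t)⁻¹ * X c b 1 * f) * (X c b 1)⁻¹ := by group
        _ = X a b t * (f * X c b 1) * (X c b 1)⁻¹ := by rw [← this]
        _ = _ := by group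
    have e2 : g2 * f * g2⁻¹ = r2 * f := by
      have := hchain a c (ng b) hac hcb' hb' (-t) s
      rw [show -t * s = -u by rw [hs]; field_simp, hneg _ _ hb'] at this
      rw [hr2]
      calc g2 * f * g2⁻¹ = X a (ng b) u * ((X a (ng b) u)⁻¹ * g2 * f) * g2⁻¹ := by group
        _ = X a (ng b) u * (f * g2) * g2⁻¹ := by rw [← this]
        _ = _ := by group
    have e3 : g1 * r2 * g1⁻¹ = r3 * r2 := by
      have hr : r2 = X b (ng a) (-u) := by
        rw [hr2, ← hsymm b (ng a) (by rw [lv_ng]; exact h.symm), ng_ng]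
      have := hchain c b (ng a) hbc.symm (by rw [lv_ng]; exact h.symm) hca' 1 (-u)
      rw [one_mul, ← hr] at this
      rw [hr3, show g1 * r2 * g1⁻¹ = (g1 * r2) * g1⁻¹ from rfl, this]
      simp only [g1]
      group
    have e4 : g2 * r1 * g2⁻¹ = r3 * r1 := by
      have hr : r1 = X (ng b) (ng a) (-t) := by rw [hr1, hsymm a b h, neg_neg]
      have := hchain c (ng b) (ng a) hcb' (by rw [lv_ng, lv_ng]; exact h.symm) hca' s (-t)
      rw [← hr, show s * -t = -u by rw [hs]; field_simp] at this
      rw [hr3, show g2 * r1 * g2⁻¹ = (g2 * r1) * g2⁻¹ from rfl, this]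
      simp only [g2]
      group
    have hzc : g1 * g2 * (g2 * g1)⁻¹ ∈ Subgroup.center Γ := by
      apply hz
      rw [MonoidHom.mem_ker, map_mul, map_inv, map_mul, map_mul, hX c b hbc.symm, hX c (ng b) hcb',
        (φ.comm2 c b hbc.symm 1 s).eq, mul_inv_cancel]
    have key : g1 * g2 * f * (g1 * g2)⁻¹ = g2 * g1 * f * (g2 * g1)⁻¹ := by
      calc g1 * g2 * f * (g1 * g2)⁻¹
          = g1 * g2 * (g2 * g1)⁻¹ * (g2 * g1 * f * (g2 * g1)⁻¹) * (g1 * g2 * (g2 * g1)⁻¹)⁻¹ := by group
        _ = g2 * g1 * f * (g2 * g1)⁻¹ := by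
          rw [← Subgroup.mem_center_iff.1 hzc (g2 * g1 * f * (g2 * g1)⁻¹), mul_inv_cancel_right]
    have k1 : g1 * g2 * f * (g1 * g2)⁻¹ = r3 * r2 * (r1 * f) := by
      rw [show g1 * g2 * f * (g1 * g2)⁻¹ = g1 * (g2 * f * g2⁻¹) * g1⁻¹ by group, e2,
        show g1 * (r2 * f) * g1⁻¹ = g1 * r2 * g1⁻¹ * (g1 * f * g1⁻¹) by group, e3, e1]
    have k2 : g2 * g1 * f * (g2 * g1)⁻¹ = r3 * r1 * (r2 * f) := by
      rw [show g2 * g1 * f * (g2 * g1)⁻¹ = g2 * (g1 * f * g1⁻¹) * g2⁻¹ by group, e1,
        show g2 * (r1 * f) * g2⁻¹ = g2 * r1 * g2⁻¹ * (g2 * f * g2⁻¹) by group, e4, e2]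
    rw [k1, k2] at key
    simp only [mul_assoc, mul_left_cancel_iff] at key
    rw [← mul_assoc, ← mul_assoc, mul_right_cancel_iff] at key
    exact key.symm
  exact ⟨{ x := X, add := hadd, symm := hsymm, comm := hcomm, comm2 := hcomm2, chain := hchain }, hX⟩

/-- **The relations of type `D_n` lift through central extensions.** -/
theorem exists_lift (hn : 4 ≤ n) (hF4 : n = 4 → 3 ≤ Nat.card F) {Γ G : Type u} [Group Γ] [Group G] (π : Γ →* G)
    (hπ : Function.Surjective π) (hz : π.ker ≤ Subgroup.center Γ) (φ : RelsD F n G) :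
    ∃ S : RelsD F n Γ, ∀ a b, lv a ≠ lv b → ∀ t, π (S.x a b t) = φ.x a b t := by
  classical
  haveI := Fintype.ofFinite F
  have h3 : 3 ≤ n := by omega
  refine exists_lift_of_frames hn π hz φ fun ε => ?_
  obtain ⟨Ψ, hΨ⟩ := exists_hom h3 (φ.frame (fs ε) (fs_inj ε))
  obtain ⟨f, hf⟩ := Schur.exists_perfect_lift (GL.SL_commutator_eq_top_of_three_le (by simpa using h3))
    (Schur.SLn.hasCyclicSchurMultiplier h3 (fun h => absurd h (by omega)) hF4) π hπ hz Ψ
  refine ⟨ofHom f, fun i j h t => ?_⟩
  rw [ofHom_x f h]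
  exact (DFunLike.congr_fun hf _).trans (hΨ i j h t)

end Cfsg.Agent.MultD
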