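import Cfsg.Agent.Lib.MultD.Spin
import Cfsg.Agent.Lib.MultD.Lift
import Cfsg.Agent.Lib.Forms.OmegaOrder
import Cfsg.Prelude.Def_KGroupFacts

/-!
The Schur multiplier of the simple orthogonal group of plus type: it is the group of parameters of the scalars
in the universal group.
-/

set_option autoImplicit false

namespace Cfsg.Agent.MultD

open Cfsg.Agent.CurtisTits DType
open Cfsg.Agent.MaxCl Cfsg.Agent.MaxCl.Orth
open scoped MatrixGroups commutatorElement

universe u

/-- The multiplier from a perfect group through which every stem extension factors. -/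
theorem hasSchurMultiplier_of_universal {S G : Type u} [Group S] [Finite S] [Group G]
    (hperf : commutator S = ⊤) (p : S →* G) (hp : Function.Surjective p) (hpz : p.ker ≤ Subgroup.center S)
    (hlift : ∀ (Γ : Type u) [Group Γ] (σ : Γ →* G), Function.Surjective σ → σ.ker ≤ Subgroup.center Γ →
      ∃ f : S →* Γ, σ.comp f = p)
    {A : Type*} [CommGroup A] (e : p.ker ≃* A) : Cfsg.HasSchurMultiplier G A := by
  refine ⟨⟨S, inferInstance, inferInstance, p, ⟨hp, hpz, by rw [hperf]; exact le_top⟩, ⟨e⟩⟩, ?_⟩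
  intro Γ _ _ σ hσ
  obtain ⟨f, hf⟩ := hlift Γ σ hσ.1 hσ.2.1
  have hfσ : ∀ s, σ (f s) = p s := fun s => DFunLike.congr_fun hf s
  let g : p.ker →* σ.ker := (f.comp p.ker.subtype).codRestrict σ.ker fun x => by
    rw [MonoidHom.mem_ker]
    exact (hfσ x).trans x.2
  have hsurj : Function.Surjective f := by
    intro γ
    obtain ⟨s, hs⟩ := hp (σ γ)
    have hker : (f s)⁻¹ * γ ∈ σ.ker := by
      rw [MonoidHom.mem_ker, map_mul, map_inv, hfσ, hs, inv_mul_cancel]
    have hle : commutator Γ ≤ f.range := by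
      rw [commutator_def, Subgroup.commutator_le]
      rintro a - b -
      obtain ⟨u, hu⟩ := hp (σ a)
      obtain ⟨v, hv⟩ := hp (σ b)
      exact ⟨⁅u, v⁆, (map_commutatorElement f u v).trans
        (Schur.commutator_congr hσ.2.1 ((hfσ u).trans hu) ((hfσ v).trans hv))⟩
    obtain ⟨t, ht⟩ := hle (hσ.2.2 hker)
    exact ⟨s * t, by rw [map_mul, ht, mul_inv_cancel_left]⟩
  refine ⟨g.comp e.symm.toMonoidHom, ?_⟩
  rintro ⟨k, hk⟩
  obtain ⟨s, rfl⟩ := hsurj k
  have hs : s ∈ p.ker := by rw [MonoidHom.mem_ker] at hk ⊢; rw [← hfσ, hk]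
  exact ⟨e ⟨s, hs⟩, Subtype.ext (by simp [g])⟩

variable {F : Type u} [Field F] [Fintype F] {n : ℕ}

/-- The push-forward of the relations. -/
def pushD {G H : Type*} [Group G] [Group H] (R : RelsD F n G) (f : G →* H) : RelsD F n H where
  x a b t := f (R.x a b t)
  add a b h t u := by rw [R.add a b h, map_mul]
  symm a b h t := by rw [R.symm a b h]
  comm a b c d h1 h2 h3 h4 h5 h6 t u := (R.comm a b c d h1 h2 h3 h4 h5 h6 t u).map f
  comm2 a b h t u := (R.comm2 a b h t u).map f
  chain a b c h1 h2 h3 t u := by rw [← map_mul, R.chain a b c h1 h2 h3 t u, map_mul, map_mul]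

/-- The universal group covers the simple group with kernel given by the parameters. -/
theorem exists_cover (h3 : 3 ≤ n) :
    ∃ p : U F n →* Cfsg.POmega F (Cfsg.quadFormPlus n F), Function.Surjective p ∧ p.ker = (zhom (F := F) h3).range ∧
      Function.Injective (zhom (F := F) h3) := by
  rw [show Cfsg.quadFormPlus n F = ⇑(DModel.qf F n) from (QForm.coe_plusForm F n).symm]
  set Q := DModel.qf F n with hQ
  let θ : U F n →* GL (SIdx n) F := (cover F n).θ
  have hrange : θ.range = (Omega F ⇑Q).map (isometryGroup F ⇑Q).subtype := range_theta h3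
  let eO : Omega F ⇑Q ≃* ↥((Omega F ⇑Q).map (isometryGroup F ⇑Q).subtype) :=
    Subgroup.equivMapOfInjective _ _ (Subgroup.subtype_injective _)
  let θO : U F n →* Omega F ⇑Q := eO.symm.toMonoidHom.comp
    ((MulEquiv.subgroupCongr hrange).toMonoidHom.comp θ.rangeRestrict)
  have hθO : Function.Surjective θO := eO.symm.surjective.comp
    ((MulEquiv.subgroupCongr hrange).surjective.comp θ.rangeRestrict_surjective)
  have hval : ∀ u, ((θO u).1.1 : GL (SIdx n) F) = θ u := by
    intro u
    have h1 : eO (θO u) = MulEquiv.subgroupCongr hrange (θ.rangeRestrict u) := eO.apply_symm_apply _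
    exact congrArg Subtype.val h1
  let p : U F n →* Cfsg.POmega F ⇑Q := (QuotientGroup.mk' (Subgroup.center (Omega F ⇑Q))).comp θO
  have hp : Function.Surjective p := (QuotientGroup.mk'_surjective _).comp hθO
  have hker : p.ker = (zhom (F := F) h3).range := by
    ext u
    rw [MonoidHom.mem_ker, MonoidHom.comp_apply, QuotientGroup.mk'_apply, QuotientGroup.eq_one_iff]
    constructor
    · intro hu
      obtain ⟨a, ha, hga⟩ := Forms.omega_center_matrix Q (QForm.plusForm_nondegenerate F n)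
        (by simp; omega) _ hu
      rw [hval] at hga
      refine exists_zhom h3 ha fun x q => ?_
      show act (θ u) x q = a * x q
      rw [act_apply, hga, Matrix.smul_mulVec, Matrix.one_mulVec]
      rfl
    · rintro ⟨z, rfl⟩
      refine Subgroup.mem_center_iff.2 fun y => ?_
      obtain ⟨v, rfl⟩ := hθO y
      rw [← map_mul, ← map_mul, Subgroup.mem_center_iff.1 (scal_central h3 (scal_zhom h3 z)) v]
  have hinj : Function.Injective (zhom (F := F) h3) := by
    rw [← MonoidHom.ker_eq_bot_iff, Subgroup.eq_bot_iff_forall]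
    intro z hz1
    have h1 := eq_one_of_zhom h3 hz1
    obtain ⟨⟨ε, t⟩, hε, ht⟩ := z
    simp only at h1
    subst h1
    have ht' : (t : F) * t = 1 := by
      rw [← Units.val_mul, ht]; simp
    rcases mul_self_eq_one_iff.1 ht' with h | h
    · exact Subtype.ext (Prod.ext rfl (Units.ext h))
    · by_cases h2 : (2 : F) = 0
      · exact Subtype.ext (Prod.ext rfl (Units.ext (by show (t : F) = 1; rw [h]; linear_combination -h2)))
      · refine absurd ?_ (zhom_negPar_ne_one (F := F) h3 h2)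
        convert MonoidHom.mem_ker.1 hz1 using 2
        exact Subtype.ext (Prod.ext rfl (Units.ext (by simp [negPar, h])))
  exact ⟨p, hp, hker, hinj⟩

/-- **The multiplier of the simple group of plus type is the group of parameters.** -/
theorem hasSchurMultiplier_plus (hn : 4 ≤ n) (hF4 : n = 4 → 3 ≤ Nat.card F) {A : Type*} [CommGroup A]
    (e : par (F := F) (n := n) ≃* A) :
    Cfsg.HasSchurMultiplier (Cfsg.POmega F (Cfsg.quadFormPlus n F)) A := by
  have h3 : 3 ≤ n := by omega
  obtain ⟨p, hp, hker, hinj⟩ := exists_cover (F := F) h3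
  have hfin : Finite (U F n) := by
    haveI : Finite p.ker := by
      rw [hker]
      exact Finite.of_surjective _ (zhom (F := F) h3).rangeRestrict_surjective
    haveI : Finite (U F n ⧸ p.ker) := Finite.of_equiv _ (QuotientGroup.quotientKerEquivOfSurjective p hp).toEquiv.symm
    exact Finite.of_equiv _ (Subgroup.groupEquivQuotientProdSubgroup (s := p.ker)).symm
  have hz : p.ker ≤ Subgroup.center (U F n) := by
    rw [hker]
    rintro _ ⟨z, rfl⟩
    exact scal_central h3 (scal_zhom h3 z)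
  refine hasSchurMultiplier_of_universal (perfect h3) p hp hz (fun Γ _ σ hσ hσz => ?_)
    ((MulEquiv.subgroupCongr hker).trans ((MonoidHom.ofInjective hinj).symm.trans e))
  obtain ⟨S, hS⟩ := exists_lift hn hF4 σ hσ hσz (pushD (univ F n) p)
  refine ⟨lift S, hom_ext fun a b h t => ?_⟩
  rw [MonoidHom.comp_apply, lift_x _ h, hS a b h t]
  rfl

theorem card_units_eq {q : ℕ} (hF : Fintype.card F = q) : Nat.card Fˣ = q - 1 := by
  classical
  rw [Nat.card_eq_fintype_card, Fintype.card_units, hF]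

/-- Roots of unity as a cyclic group. -/
theorem exists_equiv_zmod {q : ℕ} (hF : Fintype.card F = q) (d : ℕ) :
    Nonempty ((powMonoidHom d : Fˣ →* Fˣ).ker ≃* Multiplicative (ZMod (Nat.gcd d (q - 1)))) := by
  have h := IsCyclic.card_powMonoidHom_ker (G := Fˣ) d
  rw [card_units_eq hF, Nat.gcd_comm] at h
  exact ⟨(h ▸ zmodCyclicMulEquiv (inferInstance : IsCyclic (powMonoidHom d : Fˣ →* Fˣ).ker)).symm⟩

/-- The parameters in odd rank. -/
theorem par_odd {q : ℕ} (hF : Fintype.card F = q) (hodd : Odd n) :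
    Nonempty (par (F := F) (n := n) ≃* Multiplicative (ZMod (Nat.gcd 4 (q ^ n - 1)))) := by
  classical
  obtain ⟨m, hm⟩ := hodd
  have hεn : ∀ ε : Fˣ, ε * ε = 1 → ε ^ n = ε := fun ε h => by
    rw [hm, pow_succ, pow_mul, pow_two, h, one_pow, one_mul]
  have e : par (F := F) (n := n) ≃* (powMonoidHom 4 : Fˣ →* Fˣ).ker :=
    { toFun := fun z => ⟨z.1.2, by
        obtain ⟨⟨ε, t⟩, h1, h2⟩ := z
        rw [MonoidHom.mem_ker, powMonoidHom_apply]
        rw [show t ^ 4 = (t * t) * (t * t) by rw [pow_succ, pow_succ, pow_succ, pow_one, mul_assoc]]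
        rw [show t * t = ε from h2.trans (hεn ε h1)]
        exact h1⟩
      invFun := fun t => ⟨(t.1 * t.1, t.1), by
        have h := t.2
        rw [MonoidHom.mem_ker, powMonoidHom_apply] at h
        have h' : t.1 * t.1 * (t.1 * t.1) = 1 := by
          rw [← h, pow_succ, pow_succ, pow_succ, pow_one]; simp only [mul_assoc]
        exact ⟨h', (hεn _ h').symm⟩⟩
      left_inv := fun z => by
        obtain ⟨⟨ε, t⟩, h1, h2⟩ := z
        exact Subtype.ext (Prod.ext (h2.trans (hεn ε h1)) rfl)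
      right_inv := fun t => rfl
      map_mul' := fun _ _ => rfl }
  have hg : Nat.gcd 4 (q ^ n - 1) = Nat.gcd 4 (q - 1) := by
    have hq1 : 1 ≤ q := hF ▸ Fintype.card_pos
    have hq2 : 1 ≤ q ^ n := Nat.one_le_pow _ _ hq1
    have hmod : (q ^ n - 1) % 4 = (q - 1) % 4 ∨ (q % 2 = 0 ∧ (q ^ n) % 2 = 0) := by
      rcases Nat.even_or_odd q with he | ho
      · exact Or.inr ⟨Nat.even_iff.1 he, Nat.even_iff.1 (Nat.even_pow.2 ⟨he, by omega⟩)⟩
      · left
        have : q ^ n % 4 = q % 4 := by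
          rw [hm, pow_succ, pow_mul, Nat.mul_mod, Nat.pow_mod]
          have h2 : q ^ 2 % 4 = 1 := by
            obtain ⟨k, rfl⟩ := ho
            ring_nf; omega
          rw [h2, one_pow]
          simp
        omega
    rcases hmod with h | ⟨h1, h2⟩
    · rw [Nat.gcd_rec, h, ← Nat.gcd_rec]
    · have hc : ∀ x, x % 2 = 1 → Nat.gcd 4 x = 1 := fun x hx => by
        rw [Nat.gcd_rec]
        rcases (by omega : x % 4 = 1 ∨ x % 4 = 3) with h | h <;> rw [h] <;> rfl
      rw [hc _ (by omega), hc _ (by omega)]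
  obtain ⟨e'⟩ := exists_equiv_zmod hF 4
  rw [hg]
  exact ⟨e.trans e'⟩

/-- The parameters in even rank. -/
theorem par_even {q : ℕ} (hF : Fintype.card F = q) (heven : Even n) (hn0 : n ≠ 0) :
    Nonempty (par (F := F) (n := n) ≃*
      Multiplicative (ZMod (Nat.gcd 2 (q ^ n - 1)) × ZMod (Nat.gcd 2 (q ^ n - 1)))) := by
  classical
  obtain ⟨m, hm⟩ := heven
  have hεn : ∀ ε : Fˣ, ε * ε = 1 → ε ^ n = 1 := fun ε h => by
    rw [hm, ← two_mul, pow_mul, pow_two, h, one_pow]
  have hk : ∀ x : Fˣ, x ∈ (powMonoidHom 2 : Fˣ →* Fˣ).ker ↔ x * x = 1 := fun x => by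
    rw [MonoidHom.mem_ker, powMonoidHom_apply, pow_two]
  have e : par (F := F) (n := n) ≃* (powMonoidHom 2 : Fˣ →* Fˣ).ker × (powMonoidHom 2 : Fˣ →* Fˣ).ker :=
    { toFun := fun z => (⟨z.1.1, (hk _).2 z.2.1⟩, ⟨z.1.2, (hk _).2 (z.2.2.trans (hεn _ z.2.1))⟩)
      invFun := fun z => ⟨(z.1.1, z.2.1), (hk _).1 z.1.2, ((hk _).1 z.2.2).trans (hεn _ ((hk _).1 z.1.2)).symm⟩
      left_inv := fun _ => rfl
      right_inv := fun _ => rfl
      map_mul' := fun _ _ => rfl }
  have hg : Nat.gcd 2 (q ^ n - 1) = Nat.gcd 2 (q - 1) := by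
    have hq1 : 1 ≤ q := hF ▸ Fintype.card_pos
    have hq2 : 1 ≤ q ^ n := Nat.one_le_pow _ _ hq1
    have : q ^ n % 2 = q % 2 := by
      rcases Nat.even_or_odd q with he | ho
      · rw [Nat.even_iff.1 he, Nat.even_iff.1 (Nat.even_pow.2 ⟨he, hn0⟩)]
      · rw [Nat.odd_iff.1 ho, Nat.odd_iff.1 ho.pow]
    rw [Nat.gcd_rec, show (q ^ n - 1) % 2 = (q - 1) % 2 by omega, ← Nat.gcd_rec]
  obtain ⟨e'⟩ := exists_equiv_zmod hF 2
  rw [hg]
  exact ⟨(e.trans (MulEquiv.prodCongr e' e')).trans (MulEquiv.prodMultiplicative _ _).symm⟩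

end Cfsg.Agent.MultD
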