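import Cfsg.Agent.Lib.MultD.Kernel

/-!
Root elements in the Clifford algebra: in odd characteristic the cover of the orthogonal group of plus type is
not injective.
-/

set_option autoImplicit false

namespace Cfsg.Agent.MultD

open Cfsg.Agent.CurtisTits DType

universe u

variable {F : Type u} [Field F] {n : ℕ}

/-- A family of anticommuting elements of square zero. -/
structure Pairing (F : Type u) [Field F] (n : ℕ) (A : Type u) [Ring A] [Algebra F A] where
  e : SIdx n → A
  sq : ∀ a, e a * e a = 0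
  anti : ∀ a c, a ≠ ng c → e a * e c = -(e c * e a)
  one : ∀ a, e a * e (ng a) + e (ng a) * e a = 1

namespace Pairing

variable {A : Type u} [Ring A] [Algebra F A] (E : Pairing F n A)

/-- The product attached to a root. -/
def P (a b : SIdx n) : A := E.e a * E.e (ng b)

theorem P_mul_P {a b : SIdx n} (h : lv a ≠ lv b) : E.P a b * E.P a b = 0 := by
  have h' : ng b ≠ ng a := fun e => (lv_ne.1 h).1 (ng_inj.1 e).symm
  simp only [P]
  rw [mul_assoc (E.e a), ← mul_assoc (E.e (ng b)), E.anti _ _ h']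
  simp [← mul_assoc, E.sq]

/-- The root unit. -/
def X (a b : SIdx n) (t : F) : Aˣ := by
  classical
  exact if h : lv a ≠ lv b then
    { val := 1 + t • E.P a b
      inv := 1 - t • E.P a b
      val_inv := by simp [mul_sub, add_mul, E.P_mul_P h]
      inv_val := by simp [mul_add, sub_mul, E.P_mul_P h] }
  else 1

theorem coe_X {a b : SIdx n} (h : lv a ≠ lv b) (t : F) : (E.X a b t : A) = 1 + t • E.P a b := by
  rw [X, dif_pos h]

theorem move (p q r : SIdx n) (h : p ≠ ng q) (x : A) : x * E.e p * E.e q * E.e r = -(x * E.e q * E.e p * E.e r) := by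
  rw [mul_assoc x, E.anti p q h]
  simp [mul_assoc]

theorem P_symm {a b : SIdx n} (h : lv a ≠ lv b) : E.P (ng b) (ng a) = -E.P a b := by
  rw [P, P, ng_ng, E.anti _ _ fun e => (lv_ne.1 h).1 (ng_inj.1 e).symm]

theorem P_comm {a b c d : SIdx n} (had : a ≠ d) (hbc : b ≠ c) (hac : a ≠ ng c) (hbd : b ≠ ng d) :
    E.P a b * E.P c d = E.P c d * E.P a b := by
  have k : ∀ p q r : SIdx n, p ≠ ng q → p ≠ ng r → E.e p * (E.e q * E.e r) = E.e q * E.e r * E.e p := by
    intro p q r h1 h2
    rw [← mul_assoc, E.anti p q h1, neg_mul, mul_assoc, E.anti p r h2, mul_neg, neg_neg, mul_assoc]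
  have k1 := k a c (ng d) hac (by rwa [ng_ng])
  have k2 := k (ng b) c (ng d) (fun e => hbc (ng_inj.1 e)) (by rw [ng_ng]; exact fun e => hbd (by rw [← e, ng_ng]))
  simp only [P]
  rw [mul_assoc (E.e a), k2, ← mul_assoc, k1, mul_assoc]

theorem P_mul_comm2 {a b : SIdx n} (h : lv a ≠ lv b) :
    E.P a b * E.P a (ng b) = 0 ∧ E.P a (ng b) * E.P a b = 0 := by
  have hne := lv_ne.1 h
  simp only [P, ng_ng]
  constructor
  · rw [mul_assoc (E.e a), ← mul_assoc (E.e (ng b)), E.anti (ng b) a fun e => hne.1 (ng_inj.1 e).symm]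
    simp [← mul_assoc, E.sq]
  · rw [mul_assoc (E.e a), ← mul_assoc (E.e b), E.anti b a fun e => hne.2 (by rw [e, ng_ng])]
    simp [← mul_assoc, E.sq]

theorem P_chain {a b c : SIdx n} (h1 : lv a ≠ lv b) (h2 : lv b ≠ lv c) (h3 : lv a ≠ lv c) :
    E.P a b * E.P b c = E.P b c * E.P a b + E.P a c ∧ E.P a c * E.P b c = 0 ∧ E.P a c * E.P a b = 0 := by
  have n1 := lv_ne.1 h1
  have n2 := lv_ne.1 h2
  have n3 := lv_ne.1 h3
  have hca : ng c ≠ ng a := fun e => n3.1 (ng_inj.1 e).symm
  have hba : b ≠ ng a := fun e => n1.2 (by rw [e, ng_ng])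
  have hcb : ng c ≠ ng b := fun e => n2.1 (ng_inj.1 e).symm
  have hcb' : ng c ≠ ng (ng b) := by rw [ng_ng]; exact fun e => n2.2 e.symm
  simp only [P]
  set A' := E.e a
  set B := E.e b
  set B' := E.e (ng b)
  set C := E.e (ng c)
  have ab : A' * B = -(B * A') := E.anti a b n1.2
  have cb : C * B' = -(B' * C) := E.anti _ _ hcb'
  have ca : C * A' = -(A' * C) := E.anti _ _ hca
  have cB : C * B = -(B * C) := E.anti _ _ hcb
  refine ⟨?_, ?_, ?_⟩
  · have e1 : B * C * (A' * B') = -(A' * (B * B') * C) := by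
      calc B * C * (A' * B') = B * (C * A') * B' := by simp [mul_assoc]
        _ = -(B * A' * (C * B')) := by rw [ca]; simp [mul_assoc]
        _ = B * A' * B' * C := by rw [cb]; simp [mul_assoc]
        _ = -(A' * B) * B' * C := by rw [ab, neg_neg]
        _ = -(A' * (B * B') * C) := by simp [mul_assoc]
    rw [e1, ← sub_eq_zero]
    have := E.one b
    calc A' * B' * (B * C) - (-(A' * (B * B') * C) + A' * C) = A' * ((B * B' + B' * B) - 1) * C := by
          simp [mul_sub, mul_add, sub_mul, add_mul, mul_assoc]; abel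
      _ = 0 := by rw [show B * B' + B' * B = 1 from this]; simp
  · calc A' * C * (B * C) = A' * (C * B) * C := by simp [mul_assoc]
      _ = 0 := by rw [cB]; simp [mul_assoc, show C * C = 0 from E.sq _]
  · calc A' * C * (A' * B') = A' * (C * A') * B' := by simp [mul_assoc]
      _ = 0 := by rw [ca]; simp [← mul_assoc, show A' * A' = 0 from E.sq _]

/-- The relations among the root units. -/
def rels : RelsD F n Aˣ where
  x := E.X
  add a b h t u := Units.ext (by
    simp [E.coe_X h, mul_add, add_mul, E.P_mul_P h, add_smul]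
    abel)
  symm a b h t := Units.ext (by
    rw [E.coe_X (by rw [lv_ng, lv_ng]; exact h.symm), E.coe_X h, E.P_symm h, smul_neg, neg_smul])
  comm a b c d h1 h2 h3 h4 h5 h6 t u := Units.ext (by
    simp [E.coe_X h1, E.coe_X h2, mul_add, add_mul, E.P_comm h3 h4 h5 h6, smul_smul, mul_comm t u]
    abel)
  comm2 a b h t u := Units.ext (by
    simp [E.coe_X h, E.coe_X (show lv a ≠ lv (ng b) by rwa [lv_ng]), mul_add, add_mul, (E.P_mul_comm2 h).1,
      (E.P_mul_comm2 h).2]
    abel)
  chain a b c h1 h2 h3 t u := Units.ext (by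
    obtain ⟨e1, e2, e3⟩ := E.P_chain h1 h2 h3
    have e4 : E.P a c * (E.P b c * E.P a b) = 0 := by rw [← mul_assoc, e2, zero_mul]
    simp [E.coe_X h1, E.coe_X h2, E.coe_X h3, mul_add, add_mul, e1, e2, e3, smul_smul, smul_add, mul_comm t u]
    abel)

theorem P_triple {a b : SIdx n} (h : lv a ≠ lv b) : E.P a b * E.P b a * E.P a b = E.P a b := by
  have hne := lv_ne.1 h
  simp only [P]
  set A' := E.e a
  set A'' := E.e (ng a)
  set B := E.e b
  set B' := E.e (ng b)
  have h1 : A'' * A' = 1 - A' * A'' := eq_sub_of_add_eq (by rw [add_comm]; exact E.one a)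
  have h2 : B' * B = 1 - B * B' := eq_sub_of_add_eq (by rw [add_comm]; exact E.one b)
  have f1 : B * A'' = -(A'' * B) := E.anti _ _ (by rw [ng_ng]; exact hne.1.symm)
  have f3 : B * A' = -(A' * B) := E.anti _ _ (fun e => hne.2 (by rw [e, ng_ng]))
  calc A' * B' * (B * A'') * (A' * B') = A' * (B' * B) * (A'' * A') * B' := by simp [mul_assoc]
    _ = A' * (B' * B) * B' - A' * (B' * B) * A' * A'' * B' := by rw [h1]; simp [mul_sub, sub_mul, mul_assoc]
    _ = A' * B' := by
      rw [h2]
      have g1 : A' * (B * B') * B' = 0 := by simp [mul_assoc, show B' * B' = 0 from E.sq _]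
      have g2 : A' * (B * B') * A' = 0 := by
        have f4 : B' * A' = -(A' * B') := E.anti _ _ fun e => hne.1 (ng_inj.1 e).symm
        calc A' * (B * B') * A' = A' * B * (B' * A') := by simp [mul_assoc]
          _ = -(A' * (B * A') * B') := by rw [f4]; simp [mul_assoc]
          _ = 0 := by rw [f3]; simp [← mul_assoc, show A' * A' = 0 from E.sq _]
      have g3 : A' * (1 : A) * A' = 0 := by rw [mul_one]; exact E.sq _
      simp only [mul_sub, sub_mul, g1, g2, g3, sub_zero, zero_sub, neg_zero, zero_mul, mul_one, show A' * A' = 0 from E.sq _]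

/-- The idempotent of a root. -/
def S (a b : SIdx n) : A := E.P a b * E.P b a + E.P b a * E.P a b

theorem S_idem {a b : SIdx n} (h : lv a ≠ lv b) : E.S a b * E.S a b = E.S a b := by
  have p1 := E.P_mul_P h
  have p2 := E.P_mul_P h.symm
  have t1 := E.P_triple h
  have t2 := E.P_triple h.symm
  set P := E.P a b
  set Q := E.P b a
  show (P * Q + Q * P) * (P * Q + Q * P) = P * Q + Q * P
  calc (P * Q + Q * P) * (P * Q + Q * P)
      = P * Q * P * Q + P * (Q * Q) * P + Q * (P * P) * Q + Q * P * Q * P := by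
        simp [mul_add, add_mul, mul_assoc]; abel
    _ = _ := by rw [t1, t2, p1, p2]; simp

theorem S_add {a b : SIdx n} (h : lv a ≠ lv b) : E.S a b + E.S a (ng b) = 1 := by
  have hne := lv_ne.1 h
  simp only [S, P, ng_ng]
  set A' := E.e a
  set A'' := E.e (ng a)
  set B := E.e b
  set B' := E.e (ng b)
  have fab : A' * B = -(B * A') := E.anti _ _ hne.2
  have fab' : A' * B' = -(B' * A') := E.anti _ _ (by rw [ng_ng]; exact hne.1)
  have gab : A'' * B = -(B * A'') := E.anti _ _ (fun e => hne.1 (ng_inj.1 e))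
  have gab' : A'' * B' = -(B' * A'') := E.anti _ _ (by rw [ng_ng]; exact fun e => hne.2 (by rw [← e, ng_ng]))
  have hb : B' * B + B * B' = 1 := by rw [add_comm]; exact E.one b
  have s1 : B * A'' * (A' * B') = A'' * A' * (B * B') := by
    calc B * A'' * (A' * B') = -(A'' * B) * (A' * B') := by rw [gab, neg_neg]
      _ = A'' * (-(B * A')) * B' := by simp [mul_assoc]
      _ = _ := by rw [← fab]; simp [mul_assoc]
  have s2 : B' * A'' * (A' * B) = A'' * A' * (B' * B) := by
    calc B' * A'' * (A' * B) = -(A'' * B') * (A' * B) := by rw [gab', neg_neg]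
      _ = A'' * (-(B' * A')) * B := by simp [mul_assoc]
      _ = _ := by rw [← fab']; simp [mul_assoc]
  calc A' * B' * (B * A'') + B * A'' * (A' * B') + (A' * B * (B' * A'') + B' * A'' * (A' * B))
      = A' * (B' * B + B * B') * A'' + (A'' * A') * (B' * B + B * B') := by
        rw [s1, s2]; simp [mul_add, add_mul, mul_assoc]; abel
    _ = A' * A'' + A'' * A' := by rw [hb]; simp
    _ = 1 := E.one a

theorem map_hh_neg_one {a b : SIdx n} (h : lv a ≠ lv b) :
    ((lift E.rels (hh a b (-1)) : Aˣ) : A) = 1 - 2 • E.S a b := by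
  have e : ((lift E.rels ((univ F n).w a b (-1)) : Aˣ) : A) =
      (1 - E.P a b) * (1 + E.P b a) * (1 - E.P a b) := by
    simp only [RelsD.w, map_mul, lift_x _ h, lift_x _ h.symm, Units.val_mul]
    show (E.X a b (-1) : A) * E.X b a (-(-1)⁻¹) * E.X a b (-1) = _
    rw [E.coe_X h, E.coe_X h.symm]
    simp [inv_neg, sub_eq_add_neg]
  rw [hh, map_mul, Units.val_mul, e, S]
  have p1 := E.P_mul_P h
  have p2 := E.P_mul_P h.symm
  have t1 := E.P_triple h
  have t2 := E.P_triple h.symm
  set P := E.P a b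
  set Q := E.P b a
  have hw : (1 - P) * (1 + Q) * (1 - P) = 1 - P + Q - (P * Q + Q * P) := by
    simp [mul_add, add_mul, mul_sub, sub_mul, p1, t1]
    abel
  rw [hw]
  have u1 : P * (Q * P) = P := by rw [← mul_assoc, t1]
  have u2 : Q * (P * Q) = Q := by rw [← mul_assoc, t2]
  have u3 : ∀ x, P * (P * x) = 0 := fun x => by rw [← mul_assoc, p1, zero_mul]
  have u4 : ∀ x, Q * (Q * x) = 0 := fun x => by rw [← mul_assoc, p2, zero_mul]
  have u5 : ∀ x, P * (Q * (P * x)) = P * x := fun x => by rw [← mul_assoc, ← mul_assoc, t1]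
  have u6 : ∀ x, Q * (P * (Q * x)) = Q * x := fun x => by rw [← mul_assoc, ← mul_assoc, t2]
  simp only [mul_add, add_mul, mul_sub, sub_mul, mul_assoc, mul_one, one_mul, zero_mul, mul_zero, p1, p2, u1, u2, u3, u4,
    two_nsmul]
  abel

end Pairing

/-- The pairing in the Clifford algebra. -/
noncomputable def cliff (F : Type u) [Field F] (n : ℕ) : Pairing F n (CliffordAlgebra (DModel.qf F n)) where
  e a := CliffordAlgebra.ι _ (DModel.ev a)
  sq a := by rw [CliffordAlgebra.ι_sq_scalar, DModel.Q_ev, map_zero]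
  anti a c h := by
    have := CliffordAlgebra.ι_mul_ι_add_swap (Q := DModel.qf F n) (DModel.ev a) (DModel.ev c)
    rw [DModel.B_ev, DModel.ev_apply, if_neg (fun e => h (by rw [← e, ng_ng])), map_zero] at this
    exact eq_neg_of_add_eq_zero_left this
  one a := by
    rw [CliffordAlgebra.ι_mul_ι_add_swap, DModel.B_ev, DModel.ev_apply, if_pos rfl, map_one]

/-- The element `-1` of the parameters. -/
def negPar : par (F := F) (n := n) := ⟨(1, -1), by simp, by simp⟩

variable [Finite F]

theorem zhom_negPar (hn : 3 ≤ n) : zhom hn (negPar (F := F) (n := n)) =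
    hh (Sum.inl (i0 hn)) (Sum.inl (i1 hn)) (-1) * hh (Sum.inl (i0 hn)) (Sum.inr (i1 hn)) (-1) := by
  classical
  letI : CommGroup (tsub F n) := tsubGroup hn
  show (((∏ i, comp hn i _) * hhom hn (lv01 hn) (-1) : tsub F n) : U F n) = _
  have e01 : i0 hn ≠ i1 hn := by simp [Fin.ext_iff]
  rw [Finset.prod_eq_single (i1 hn) ?_ (by simp)]
  · rw [Subgroup.coe_mul]
    congr 1
    · rw [comp, dif_pos e01]
      simp [hhom, sec, negPar, e01.symm]
  · intro i _ hi
    simp only [comp]
    split_ifs with h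
    · simp [sec, negPar, hi, Ne.symm h]
    · rfl

/-- **The cover is not injective in odd characteristic.** -/
theorem zhom_negPar_ne_one (hn : 3 ≤ n) (h2 : (2 : F) ≠ 0) : zhom hn (negPar (F := F) (n := n)) ≠ 1 := by
  intro h
  letI : Invertible (2 : F) := invertibleOfNonzero h2
  set E := cliff F n
  have h1 := congrArg (fun g => ((lift E.rels g : (CliffordAlgebra (DModel.qf F n))ˣ) : CliffordAlgebra (DModel.qf F n))) h
  simp only [map_one, Units.val_one, zhom_negPar, map_mul, Units.val_mul] at h1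
  have e01 : lv (Sum.inl (i0 hn) : SIdx n) ≠ lv (Sum.inl (i1 hn) : SIdx n) := by simp [lv, Fin.ext_iff]
  rw [E.map_hh_neg_one e01, E.map_hh_neg_one (lv01 hn),
    show E.S (Sum.inl (i0 hn)) (Sum.inr (i1 hn)) = 1 - E.S (Sum.inl (i0 hn)) (Sum.inl (i1 hn)) from
      eq_sub_of_add_eq' (E.S_add e01)] at h1
  set S := E.S (Sum.inl (i0 hn)) (Sum.inl (i1 hn))
  have hS : S * S = S := E.S_idem e01
  have h3 : (1 - 2 • S) * (1 - 2 • (1 - S)) = -1 := by
    simp only [two_nsmul, mul_sub, sub_mul, mul_add, add_mul, mul_one, one_mul, hS]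
    abel
  rw [h3] at h1
  have h4 : algebraMap F (CliffordAlgebra (DModel.qf F n)) (-1) = algebraMap F _ 1 := by
    rw [map_neg, map_one]; exact h1
  have h5 := (algebraMap F (CliffordAlgebra (DModel.qf F n))).injective h4
  exact h2 (by linear_combination -h5)

end Cfsg.Agent.MultD
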