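import Cfsg.Agent.Lib.CurtisTits.DKernel
import Cfsg.Agent.Lib.CurtisTits.Hom

/-!
The universal group of the relations of type `D_n`: it covers the orthogonal group with central kernel and its
torus is generated by the tori of two frames.
-/

set_option autoImplicit false

namespace Cfsg.Agent.MultD

open Cfsg.Agent.CurtisTits DType SL2Presentation
open Cfsg.Agent.MaxCl Cfsg.Agent.MaxCl.Orth
open scoped MatrixGroups commutatorElement

universe u

variable (F : Type u) [Field F] (n : ℕ)

/-- The names of the generators. -/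
abbrev Gen : Type u := {p : SIdx n × SIdx n // lv p.1 ≠ lv p.2} × F

/-- The words which vanish whenever the relations hold. -/
def rels : Set (FreeGroup (Gen F n)) :=
  {r | ∀ (G : Type u) (_ : Group G) (R : RelsD F n G),
    FreeGroup.lift (fun g : Gen F n => R.x g.1.1.1 g.1.1.2 g.2) r = 1}

/-- The universal group. -/
abbrev U : Type u := PresentedGroup (rels F n)

variable {F n}

/-- The generators of the universal group. -/
def gx (a b : SIdx n) (t : F) : U F n :=
  if h : lv a ≠ lv b then PresentedGroup.of (⟨(a, b), h⟩, t) else 1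

theorem gx_of {a b : SIdx n} (h : lv a ≠ lv b) (t : F) :
    gx a b t = PresentedGroup.mk (rels F n) (FreeGroup.of (⟨(a, b), h⟩, t)) := dif_pos h

variable (F n)

/-- The relations in the universal group. -/
def univ : RelsD F n (U F n) where
  x := gx
  add a b h t u := by
    simp only [gx_of h, ← map_mul]
    apply PresentedGroup.mk_eq_mk_of_mul_inv_mem
    intro G _ R
    simp [R.add a b h]
  symm a b h t := by
    simp only [gx_of h, gx_of (show lv (ng b) ≠ lv (ng a) by rw [lv_ng, lv_ng]; exact h.symm)]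
    apply PresentedGroup.mk_eq_mk_of_mul_inv_mem
    intro G _ R
    simp [R.symm a b h]
  comm a b c d h1 h2 h3 h4 h5 h6 t u := by
    show _ = _
    simp only [gx_of h1, gx_of h2, ← map_mul]
    apply PresentedGroup.mk_eq_mk_of_mul_inv_mem
    intro G _ R
    simp only [map_mul, map_inv, FreeGroup.lift_apply_of]
    exact mul_inv_eq_one.2 (R.comm a b c d h1 h2 h3 h4 h5 h6 t u).eq
  comm2 a b h t u := by
    show _ = _
    simp only [gx_of h, gx_of (show lv a ≠ lv (ng b) by rwa [lv_ng]), ← map_mul]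
    apply PresentedGroup.mk_eq_mk_of_mul_inv_mem
    intro G _ R
    simp only [map_mul, map_inv, FreeGroup.lift_apply_of]
    exact mul_inv_eq_one.2 (R.comm2 a b h t u).eq
  chain a b c h1 h2 h3 t u := by
    simp only [gx_of h1, gx_of h2, gx_of h3, ← map_mul]
    apply PresentedGroup.mk_eq_mk_of_mul_inv_mem
    intro G _ R
    simp only [map_mul, map_inv, FreeGroup.lift_apply_of]
    exact mul_inv_eq_one.2 (R.chain a b c h1 h2 h3 t u)

variable {F n}

/-- The homomorphism given by relations. -/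
def lift {G : Type u} [Group G] (R : RelsD F n G) : U F n →* G :=
  PresentedGroup.toGroup (f := fun g : Gen F n => R.x g.1.1.1 g.1.1.2 g.2) fun _ hr => hr G _ R

theorem lift_x {G : Type u} [Group G] (R : RelsD F n G) {a b : SIdx n} (h : lv a ≠ lv b) (t : F) :
    lift R ((univ F n).x a b t) = R.x a b t := by
  show lift R (gx a b t) = _
  rw [gx, dif_pos h, lift, PresentedGroup.toGroup.of]

theorem closure_x : Subgroup.closure {g | ∃ a b, lv a ≠ lv b ∧ ∃ t : F, g = (univ F n).x a b t} = ⊤ := by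
  rw [eq_top_iff, ← PresentedGroup.closure_range_of, Subgroup.closure_le]
  rintro _ ⟨⟨⟨⟨a, b⟩, h⟩, t⟩, rfl⟩
  exact Subgroup.subset_closure ⟨a, b, h, t, (gx_of h t).symm⟩

/-- Homomorphisms are determined on the generators. -/
theorem hom_ext {G : Type*} [Group G] {f g : U F n →* G}
    (h : ∀ a b, lv a ≠ lv b → ∀ t, f ((univ F n).x a b t) = g ((univ F n).x a b t)) : f = g := by
  refine MonoidHom.eq_of_eqOn_dense closure_x ?_
  rintro _ ⟨a, b, hab, t, rfl⟩
  exact h a b hab t

theorem perfect (hn : 3 ≤ n) : commutator (U F n) = ⊤ := by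
  rw [eq_top_iff, ← closure_x, Subgroup.closure_le]
  rintro _ ⟨a, b, h, t, rfl⟩
  obtain ⟨c, hac, hbc⟩ := RelsD.exists_third hn a b
  have e := (univ F n).chain a c b hac hbc.symm h t 1
  rw [mul_one] at e
  have : (univ F n).x a b t = ⁅(univ F n).x a c t, (univ F n).x c b 1⁆ := by
    rw [commutatorElement_def, e]; group
  rw [this, commutator_def]
  exact Subgroup.commutator_mem_commutator (Subgroup.mem_top _) (Subgroup.mem_top _)

variable (F n)

/-- The cover of the orthogonal group. -/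
noncomputable def cover : DCover F n (U F n) where
  R := univ F n
  θ := lift (DModel.model F n)
  map_x _ _ h t := lift_x _ h t

variable {F n}

theorem range_theta [Finite F] (hn : 3 ≤ n) :
    (cover F n).θ.range = Cfsg.Geo.omegaGL ⇑(DModel.qf F n) := by
  refine le_antisymm ?_ (DModel.omega_le hn fun a b h t => ⟨_, (cover F n).map_x a b h t⟩)
  rw [MonoidHom.range_eq_map, ← closure_x, MonoidHom.map_closure, Subgroup.closure_le]
  rintro _ ⟨_, ⟨a, b, h, t, rfl⟩, rfl⟩
  rw [show (cover F n).θ ((univ F n).x a b t) = DModel.E a b t from (cover F n).map_x a b h t]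
  exact DModel.E_mem_omega hn a b t

/-! ### The torus of `SL₃` -/

section three

local notation "S3" => Matrix.SpecialLinearGroup (Fin 3) F

theorem w3_coe {i j : Fin 3} (h : i ≠ j) {t : F} (ht : t ≠ 0) :
    (((ofHom (MonoidHom.id S3)).w i j t : S3) : Matrix (Fin 3) (Fin 3) F) =
      Matrix.of fun p q => if p = i ∧ q = j then t else if p = j ∧ q = i then -t⁻¹ else
        if p ≠ i ∧ p ≠ j ∧ q = p then 1 else 0 := by
  ext p q
  simp only [Rels.w, ofHom_x _ h, ofHom_x _ h.symm, MonoidHom.id_apply, Matrix.SpecialLinearGroup.coe_mul,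
    Matrix.SpecialLinearGroup.transvection_coe]
  fin_cases i <;> fin_cases j <;> (try exact absurd rfl h) <;> fin_cases p <;> fin_cases q <;>
    simp [Matrix.mul_apply, Fin.sum_univ_three, Matrix.one_apply, Matrix.single_apply, ht] <;>
    first | done | field_simp | skip
  all_goals ring

/-- `diag(t, t⁻¹)` at `i`, `j`. -/
noncomputable def h3 (i j : Fin 3) (t : F) : S3 :=
  (ofHom (MonoidHom.id S3)).w i j t * (ofHom (MonoidHom.id S3)).w i j (-1)

theorem h3_coe {i j : Fin 3} (h : i ≠ j) {t : F} (ht : t ≠ 0) :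
    ((h3 i j t : S3) : Matrix (Fin 3) (Fin 3) F) =
      Matrix.diagonal fun k => if k = i then t else if k = j then t⁻¹ else 1 := by
  rw [h3, Matrix.SpecialLinearGroup.coe_mul, w3_coe h ht, w3_coe h (neg_ne_zero.2 one_ne_zero)]
  ext p q
  fin_cases i <;> fin_cases j <;> (try exact absurd rfl h) <;> fin_cases p <;> fin_cases q <;>
    simp [Matrix.mul_apply, Fin.sum_univ_three]

end three

/-! ### The torus -/

/-- The torus element of a root. -/
def hh (a b : SIdx n) (t : F) : U F n := (univ F n).w a b t * (univ F n).w a b (-1)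

variable [Finite F]

theorem hh_tri {a b c : SIdx n} (h1 : lv a ≠ lv b) (h2 : lv b ≠ lv c) (h3' : lv a ≠ lv c) :
    ∃ Ψ : Matrix.SpecialLinearGroup (Fin 3) F →* U F n,
      ∀ (i j : Fin 3), i ≠ j → ∀ t, Ψ (h3 i j t) = hh (![a, b, c] i) (![a, b, c] j) t := by
  obtain ⟨Ψ, hΨ⟩ := exists_hom le_rfl ((univ F n).tri h1 h2 h3')
  refine ⟨Ψ, fun i j h t => ?_⟩
  simp only [h3, hh, Rels.w, RelsD.w, map_mul, ofHom_x _ h, ofHom_x _ h.symm, MonoidHom.id_apply, hΨ]
  rfl

theorem hh_mul (hn : 3 ≤ n) {a b : SIdx n} (h : lv a ≠ lv b) {s t : F} (hs : s ≠ 0) (ht : t ≠ 0) :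
    hh a b (s * t) = hh a b s * hh a b t := by
  obtain ⟨c, hac, hbc⟩ := RelsD.exists_third hn a b
  obtain ⟨Ψ, hΨ⟩ := hh_tri (F := F) h hbc hac
  have e : h3 (0 : Fin 3) 1 (s * t) = h3 0 1 s * h3 0 1 t := by
    apply Subtype.ext
    rw [Matrix.SpecialLinearGroup.coe_mul, h3_coe (by decide) hs, h3_coe (by decide) ht,
      h3_coe (by decide) (mul_ne_zero hs ht), Matrix.diagonal_mul_diagonal]
    congr 1
    funext k
    fin_cases k <;> simp [mul_comm]
  have := congrArg Ψ e
  rwa [map_mul, hΨ 0 1 (by decide), hΨ 0 1 (by decide), hΨ 0 1 (by decide)] at this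

theorem hh_swap (hn : 3 ≤ n) {a b : SIdx n} (h : lv a ≠ lv b) {t : F} (ht : t ≠ 0) :
    hh b a t = hh a b t⁻¹ := by
  obtain ⟨c, hac, hbc⟩ := RelsD.exists_third hn a b
  obtain ⟨Ψ, hΨ⟩ := hh_tri (F := F) h hbc hac
  have e : h3 (1 : Fin 3) 0 t = h3 0 1 t⁻¹ := by
    apply Subtype.ext
    rw [h3_coe (by decide) ht, h3_coe (by decide) (inv_ne_zero ht)]
    congr 1
    funext k
    fin_cases k <;> simp
  have := congrArg Ψ e
  rwa [hΨ 1 0 (by decide), hΨ 0 1 (by decide)] at this

theorem hh_split {a b c : SIdx n} (h1 : lv a ≠ lv b) (h2 : lv b ≠ lv c) (h3' : lv a ≠ lv c) {t : F}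
    (ht : t ≠ 0) : hh a c t = hh a b t * hh b c t := by
  obtain ⟨Ψ, hΨ⟩ := hh_tri (F := F) h1 h2 h3'
  have e : h3 (0 : Fin 3) 2 t = h3 0 1 t * h3 1 2 t := by
    apply Subtype.ext
    rw [Matrix.SpecialLinearGroup.coe_mul, h3_coe (by decide) ht, h3_coe (by decide) ht, h3_coe (by decide) ht,
      Matrix.diagonal_mul_diagonal]
    congr 1
    funext k
    fin_cases k <;> simp [ht]
  have := congrArg Ψ e
  rwa [map_mul, hΨ 0 2 (by decide), hΨ 0 1 (by decide), hΨ 1 2 (by decide)] at this

theorem hh_one (hn : 3 ≤ n) {a b : SIdx n} (h : lv a ≠ lv b) : hh a b (1 : F) = 1 := by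
  have := hh_mul hn h (one_ne_zero (α := F)) (one_ne_zero (α := F))
  rw [one_mul] at this
  exact left_eq_mul.1 this

omit [Finite F] in
theorem w_neg' {a b : SIdx n} (h : lv a ≠ lv b) (t : F) :
    (univ F n).w a b (-t) = ((univ F n).w a b t)⁻¹ := (univ F n).w_neg h t

theorem hh_symm (hn : 3 ≤ n) {a b : SIdx n} (h : lv a ≠ lv b) {t : F} (ht : t ≠ 0) :
    hh (ng b) (ng a) t = hh a b t := by
  have e : ∀ s, (univ F n).w (ng b) (ng a) s = (univ F n).w a b (-s) := fun s => (cover F n).w_symm h s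
  have h1 : hh a b (-t) * hh a b (-1) = hh a b t := by
    rw [← hh_mul hn h (neg_ne_zero.2 ht) (neg_ne_zero.2 one_ne_zero)]
    congr 1
    ring
  have h2 : hh a b (-1 : F) * hh a b (-1) = 1 := by
    rw [← hh_mul hn h (neg_ne_zero.2 one_ne_zero) (neg_ne_zero.2 one_ne_zero), neg_one_mul, neg_neg, hh_one hn h]
  rw [← h1, eq_inv_of_mul_eq_one_right h2]
  simp only [hh, e, neg_neg, w_neg' h, mul_inv_rev, inv_inv]
  group

/-- `g` acts diagonally with factors `c`. -/
structure IsTor (g : U F n) (c : SIdx n → F) : Prop where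
  inv : ∀ p, c p * c (ng p) = 1
  mono : DModel.Mono ((cover F n).θ g) 1 c
  conj : ∀ a b, lv a ≠ lv b → ∀ v, g * (univ F n).x a b v * g⁻¹ = (univ F n).x a b (c a / c b * v)

omit [Finite F] in
theorem IsTor.one : IsTor (1 : U F n) 1 :=
  ⟨fun _ => by simp, fun x p => by simp [act_one], fun a b _ v => by simp⟩

omit [Finite F] in
theorem IsTor.mul {g g' : U F n} {c c' : SIdx n → F} (h : IsTor g c) (h' : IsTor g' c') :
    IsTor (g * g') (c * c') := by
  refine ⟨fun p => ?_, ?_, fun a b hab v => ?_⟩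
  · simp only [Pi.mul_apply]; linear_combination (c' p * c' (ng p)) * h.inv p + h'.inv p
  · intro x p
    have e := (h.mono.mul h'.mono) x p
    simpa only [map_mul, mul_one, Equiv.Perm.one_apply, Pi.mul_apply] using e
  · rw [show g * g' * (univ F n).x a b v * (g * g')⁻¹ = g * (g' * (univ F n).x a b v * g'⁻¹) * g⁻¹ by group,
      h'.conj a b hab, h.conj a b hab]
    congr 1
    simp only [Pi.mul_apply, mul_div_mul_comm]
    ring

/-- The factors of a torus element. -/
def hc (a b : SIdx n) (t : F) (p : SIdx n) : F :=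
  if p = a then t else if p = b then t⁻¹ else if p = ng a then t⁻¹ else if p = ng b then t else 1

omit [Finite F] in
theorem isTor_hh (hn : 3 ≤ n) {a b : SIdx n} (h : lv a ≠ lv b) {t : F} (ht : t ≠ 0) :
    IsTor (hh a b t) (hc a b t) := by
  have hne := lv_ne.1 h
  have e1 : ng a ≠ b := fun e => hne.2 (by rw [← e, ng_ng])
  have e2 : ng b ≠ a := fun e => hne.2 e.symm
  have e3 : ng b ≠ ng a := fun e => hne.1 (ng_inj.1 e).symm
  have h1 : (-1 : F) ≠ 0 := neg_ne_zero.2 one_ne_zero
  have hinv : ∀ p, hc a b t p * hc a b t (ng p) = 1 := by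
    intro p
    by_cases p1 : p = a
    · subst p1; simp [hc, ng_ne, e1, ht]
    by_cases p2 : p = b
    · subst p2; simp [hc, p1, ng_ne, e2, e3, ht]
    by_cases p3 : p = ng a
    · subst p3; simp [hc, p1, p2, ht]
    by_cases p4 : p = ng b
    · subst p4; simp [hc, p1, p2, p3, hne.1.symm, ng_ne, ht]
    have f1 : ng p ≠ a := fun e => p3 (by rw [← e, ng_ng])
    have f2 : ng p ≠ b := fun e => p4 (by rw [← e, ng_ng])
    have g1 : ng p ≠ ng a := fun e => p1 (ng_inj.1 e)
    have g2 : ng p ≠ ng b := fun e => p2 (ng_inj.1 e)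
    simp only [hc]
    rw [if_neg p1, if_neg p2, if_neg p3, if_neg p4, if_neg f1, if_neg f2, if_neg g1, if_neg g2, one_mul]
  have hmono : DModel.Mono ((cover F n).θ (hh a b t)) 1 (hc a b t) := by
    have hm := (DModel.mono_w (F := F) h ht).mul (DModel.mono_w h h1)
    intro x p
    have hp := hm x p
    rw [Equiv.Perm.mul_apply, sw_sw h] at hp
    rw [Equiv.Perm.one_apply, show (cover F n).θ (hh a b t) = (cover F n).θ ((univ F n).w a b t) *
      (cover F n).θ ((univ F n).w a b (-1)) from map_mul _ _ _,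
      show (cover F n).θ ((univ F n).w a b t) = _ from (cover F n).map_w h t,
      show (cover F n).θ ((univ F n).w a b (-1)) = _ from (cover F n).map_w h (-1), hp]
    congr 1
    beta_reduce
    by_cases p1 : p = a
    · subst p1; simp [hc, DModel.wc, sw_left h, hne.1.symm, inv_neg]
    by_cases p2 : p = b
    · subst p2; simp [hc, DModel.wc, sw_right h, p1, inv_neg]
    by_cases p3 : p = ng a
    · subst p3; simp [hc, DModel.wc, sw_ng h, sw_left h, p1, p2, e2, e3, ng_ne, inv_neg]
    by_cases p4 : p = ng b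
    · subst p4; simp [hc, DModel.wc, sw_ng h, sw_right h, p1, p2, p3, e1, ng_ne, inv_neg]
    rw [sw_apply_of_ne (lv_ne.2 ⟨p1, p3⟩) (lv_ne.2 ⟨p2, p4⟩)]
    simp [hc, DModel.wc, p1, p2, p3, p4]
  refine ⟨hinv, hmono, fun c d hcd v => ?_⟩
  obtain ⟨v1, e4⟩ := (univ F n).w_conj hn h hcd h1 v
  obtain ⟨v2, e5⟩ := (univ F n).w_conj hn h (lv_sw_ne h hcd) ht v1
  rw [sw_sw h, sw_sw h] at e5
  have e : hh a b t * (univ F n).x c d v * (hh a b t)⁻¹ = (univ F n).x c d v2 := by
    rw [← e5, ← e4, hh]; group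
  rw [e]
  congr 1
  refine (cover F n).x_inj hcd ?_
  show (cover F n).θ ((univ F n).x c d v2) = (cover F n).θ ((univ F n).x c d _)
  rw [← e, map_mul, map_mul, map_inv, show (cover F n).θ ((univ F n).x c d v) = _ from (cover F n).map_x c d hcd v,
    show (cover F n).θ ((univ F n).x c d _) = _ from (cover F n).map_x c d hcd _,
    hmono.conj (fun p => rfl) hinv hcd]
  rfl

/-- The diagonal elements fix the torus elements. -/
theorem IsTor.commute (hn : 3 ≤ n) {g : U F n} {c : SIdx n → F} (hg : IsTor g c) {a b : SIdx n}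
    (h : lv a ≠ lv b) {t : F} (ht : t ≠ 0) : Commute g (hh a b t) := by
  set k := c a / c b with hk
  have ha : c a ≠ 0 := left_ne_zero_of_mul (by rw [hg.inv a]; exact one_ne_zero)
  have hb : c b ≠ 0 := left_ne_zero_of_mul (by rw [hg.inv b]; exact one_ne_zero)
  have hk0 : k ≠ 0 := div_ne_zero ha hb
  have hw : ∀ s, g * (univ F n).w a b s * g⁻¹ = (univ F n).w a b (k * s) := by
    intro s
    rw [RelsD.w, ← conj_mul, ← conj_mul, hg.conj a b h, hg.conj b a h.symm, RelsD.w, ← hk]
    congr 3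
    rw [hk, mul_inv, inv_div, mul_neg]
  have key : g * hh a b t * g⁻¹ = hh a b t := by
    have e2 : hh a b k * hh a b t = hh a b t * hh a b k := by
      rw [← hh_mul hn h hk0 ht, ← hh_mul hn h ht hk0, mul_comm]
    have e3 : g * hh a b t * g⁻¹ = hh a b (k * t) * (hh a b k)⁻¹ := by
      rw [hh, ← conj_mul, hw, hw, hh, hh, mul_neg, mul_one, w_neg' h k]
      group
    rw [e3, hh_mul hn h hk0 ht, e2, mul_inv_cancel_right]
  exact mul_inv_eq_iff_eq_mul.1 key

end Cfsg.Agent.MultD
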